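import Cfsg.Agent.Lib.Invol.FpfS3Free.Coset

/-!
The alternating group of degree four has no fixed-point-free operator group which is nilpotent
modulo a normal subgroup of order prime to six.
-/

set_option autoImplicit false

namespace Cfsg.Agent.Invol.FpfS3Free

open Subgroup

private abbrev C4 := alternatingGroup (Fin 4)

theorem alt_four_mul_sq : ∀ x y : C4, x * x = 1 → y * y = 1 → x * y * (x * y) = 1 := by decide +kernel

theorem alt_four_index : ∀ x c : C4, x * x ≠ 1 → c * c ≠ 1 →
    c⁻¹ * x * (c⁻¹ * x) = 1 ∨ c * x * (c * x) = 1 := by decide +kernel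

theorem alt_four_exists : ∃ c : C4, c * c ≠ 1 := by decide +kernel

theorem alt_four_card : Nat.card {x : C4 // x * x = 1} = 4 ∧ Nat.card C4 = 12 := by
  refine ⟨?_, ?_⟩ <;> rw [Nat.card_eq_fintype_card] <;> decide +kernel

theorem alt_four_invert : ∀ c v w : C4, c * c ≠ 1 → v * v = 1 → v ≠ 1 → w * w = 1 →
    c⁻¹ * w * v * (c⁻¹ * w)⁻¹ ≠ c * v * c⁻¹ := by decide +kernel

/-- No such operator group acts on the alternating group of degree four. -/
theorem alt_four_false {A : Type*} [Group A] [Finite A] (φ : A →* MulAut C4)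
    (hfpf : ∀ g : C4, (∀ a, φ a g = g) → g = 1) (K : Subgroup A) [K.Normal]
    (hK : (Nat.card K).Coprime 12) (hQ : Group.IsNilpotent (A ⧸ K)) : False := by
  classical
  haveI : Fact (Nat.Prime 2) := ⟨Nat.prime_two⟩
  let V : Subgroup C4 :=
    { carrier := {x | x * x = 1}
      one_mem' := one_mul 1
      mul_mem' := fun {a b} ha hb => alt_four_mul_sq a b ha hb
      inv_mem' := fun {a} (ha : a * a = 1) => show a⁻¹ * a⁻¹ = 1 by
        rw [← mul_inv_rev, ha, inv_one] }
  have hV : ∀ f : MulAut C4, ∀ x, f x ∈ V ↔ x ∈ V := fun f x => by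
    show f x * f x = 1 ↔ x * x = 1
    rw [← map_mul, EmbeddingLike.map_eq_one_iff]
  have hVcard : Nat.card V = 4 := alt_four_card.1
  -- the normal subgroup acts trivially
  have hKt : ∀ k ∈ K, φ k = 1 := by
    intro k hk
    have h24 : φ k ^ 24 = 1 := by
      let ρ : MulAut C4 →* Equiv.Perm {x : C4 // x * x = 1 ∧ x ≠ 1} :=
        MonoidHom.mk' (fun f => (f.toEquiv).subtypeEquiv fun x => by
          exact and_congr ((hV f x).symm) (not_congr (EmbeddingLike.map_eq_one_iff (f := f)).symm))
          fun f g => Equiv.ext fun x => rfl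
      have hcard : Fintype.card (Equiv.Perm {x : C4 // x * x = 1 ∧ x ≠ 1}) = 6 := by decide +kernel
      set a := φ k ^ 6 with ha
      have hfix : ∀ v : C4, v * v = 1 → a v = v := fun v hv => by
        rcases eq_or_ne v 1 with rfl | hv1
        · exact map_one _
        · have h : ρ a = 1 := by rw [ha, map_pow, ← hcard]; exact pow_card_eq_one
          exact congrArg Subtype.val (DFunLike.congr_fun (show ρ a = 1 from h) ⟨v, hv, hv1⟩)
      have ha2 : ∀ c : C4, c * c ≠ 1 → ∃ v : C4, v * v = 1 ∧ (a * a) c = c * v := by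
        intro c hc
        have hac : a c * a c ≠ 1 := fun h => hc ((hV a c).1 h)
        rcases alt_four_index (a c) c hac hc with h | h
        · refine ⟨a (c⁻¹ * a c) * 1 * (c⁻¹ * a c), ?_, ?_⟩
          · rw [mul_one, hfix _ h, h, one_mul]
          · rw [MulAut.mul_apply, mul_one, hfix _ h]
            conv_lhs => rw [show a c = c * (c⁻¹ * a c) by group, map_mul, hfix _ h]
            group
        · refine ⟨(c⁻¹ * (c * a c)⁻¹ * c) * (c * a c), ?_, ?_⟩
          · refine alt_four_mul_sq _ _ ?_ h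
            have hi : (c * a c)⁻¹ * (c * a c)⁻¹ = 1 := by rw [← mul_inv_rev, h, inv_one]
            calc c⁻¹ * (c * a c)⁻¹ * c * (c⁻¹ * (c * a c)⁻¹ * c)
                = c⁻¹ * ((c * a c)⁻¹ * (c * a c)⁻¹) * c := by group
              _ = 1 := by rw [hi]; group
          · rw [MulAut.mul_apply]
            have h1 : a (a c) = (a c)⁻¹ * (c * a c) := by
              conv_lhs => rw [show a c = c⁻¹ * (c * a c) by group, map_mul, map_inv, hfix _ h]
            rw [h1]
            group
      have h4 : a * a * (a * a) = 1 := by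
        refine MulEquiv.ext fun c => ?_
        rw [MulAut.one_apply]
        by_cases hc : c * c = 1
        · simp only [MulAut.mul_apply, hfix c hc]
        · obtain ⟨v, hv, hvc⟩ := ha2 c hc
          rw [MulAut.mul_apply, hvc, map_mul, hvc, MulAut.mul_apply, hfix v hv, hfix v hv, mul_assoc,
            hv, mul_one]
      rw [show (24 : ℕ) = 6 * 4 from rfl, pow_mul, ← ha]
      simpa [pow_succ, mul_assoc] using h4
    refine orderOf_eq_one_iff.1 (Nat.eq_one_of_dvd_coprimes ?_ dvd_rfl (orderOf_dvd_of_pow_eq_one h24))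
    refine Nat.Coprime.coprime_dvd_left ((orderOf_map_dvd φ k).trans (K.orderOf_dvd_natCard hk)) ?_
    rw [show (24 : ℕ) = 12 * 2 from rfl]
    exact hK.mul_right (hK.coprime_dvd_right (by norm_num))
  set B := φ.range with hB
  haveI hBn : Group.IsNilpotent B := by
    haveI := hQ
    exact Group.nilpotent_of_surjective (QuotientGroup.lift K φ.rangeRestrict fun k hk =>
      MonoidHom.mem_ker.2 (Subtype.ext (hKt k hk))) fun b => by
      obtain ⟨a, ha⟩ := φ.rangeRestrict_surjective b
      exact ⟨QuotientGroup.mk a, ha⟩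
  obtain ⟨P⟩ := (inferInstance : Nonempty (Sylow 2 B))
  haveI hPn : (P : Subgroup B).Normal := inferInstance
  -- an element moving a coset to the inverse one
  obtain ⟨c, hc⟩ := alt_four_exists
  obtain ⟨b, hb⟩ : ∃ b : B, (c * (b : MulAut C4) c) * (c * (b : MulAut C4) c) = 1 := by
    by_contra hcon
    push Not at hcon
    have h12 : (Nat.card K).Coprime (Nat.card C4) := alt_four_card.2.symm ▸ hK
    haveI : Group.IsSolvable V := by
      haveI : IsMulCommutative V := ⟨⟨fun x y => Subtype.ext (by
        have h := alt_four_mul_sq x y x.2 y.2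
        have hx : (x : C4)⁻¹ = x := inv_eq_of_mul_eq_one_right x.2
        have hy : (y : C4)⁻¹ = y := inv_eq_of_mul_eq_one_right y.2
        show (x : C4) * y = y * x
        rw [← inv_eq_of_mul_eq_one_right h, mul_inv_rev, hx, hy])⟩⟩
      open scoped IsMulCommutative in infer_instance
    refine hc (mem_of_fixed_coset φ hfpf K h12 hQ V inferInstance (fun a x hx => (hV _ x).2 hx) c ?_)
    intro a
    exact (alt_four_index (φ a c) c (fun h => hc ((hV (φ a) c).1 h)) hc).resolve_right
      (hcon ⟨φ a, a, rfl⟩)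
  -- its two-part
  obtain ⟨p, hp, hpc⟩ : ∃ p : B, p ∈ (P : Subgroup B) ∧ (c * (p : MulAut C4) c) * (c * (p : MulAut C4) c) = 1 := by
    obtain ⟨i, o, ho, hio⟩ := Nat.exists_eq_two_pow_mul_odd (orderOf_pos b).ne'
    refine ⟨b ^ o, ?_, ?_⟩
    · have hbp : IsPGroup 2 (Subgroup.zpowers (b ^ o)) := by
        refine IsPGroup.of_card (n := i) ?_
        rw [Nat.card_zpowers, orderOf_pow' b ho.pos.ne', hio, Nat.gcd_eq_right (dvd_mul_left o _),
          Nat.mul_div_cancel _ ho.pos]
      obtain ⟨Q, hQle⟩ := hbp.exists_le_sylow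
      have : Q = P := by
        obtain ⟨g, rfl⟩ := MulAction.exists_smul_eq B P Q
        exact (Sylow.smul_eq_of_normal (P := P) (g := g))
      exact this ▸ hQle (Subgroup.mem_zpowers _)
    · obtain ⟨j, rfl⟩ := ho
      rw [SubmonoidClass.coe_pow]
      have hstep : ∀ (n : ℕ), (c⁻¹ * ((b : MulAut C4) ^ (2 * n)) c) * (c⁻¹ * ((b : MulAut C4) ^ (2 * n)) c) = 1 ∧
          (c * ((b : MulAut C4) ^ (2 * n + 1)) c) * (c * ((b : MulAut C4) ^ (2 * n + 1)) c) = 1 := by
        intro n
        induction n with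
        | zero => simp [hb]
        | succ n ih =>
          have h0 : ∀ (y : C4) (f : MulAut C4), f y ∈ V ↔ y ∈ V := fun y f => hV f y
          have hbV : c * (b : MulAut C4) c ∈ V := hb
          have he : c⁻¹ * ((b : MulAut C4) ^ (2 * (n + 1))) c ∈ V := by
            have h1 : (b : MulAut C4) (c * ((b : MulAut C4) ^ (2 * n + 1)) c) ∈ V := (h0 _ _).2 ih.2
            rw [map_mul, ← MulAut.mul_apply, ← pow_succ'] at h1
            have h2 := V.mul_mem ((hV (MulAut.conj c⁻¹) _).2 (V.inv_mem hbV)) h1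
            rw [MulAut.conj_apply] at h2
            simpa [mul_add, mul_assoc] using h2
          refine ⟨he, ?_⟩
          have h1 : (b : MulAut C4) (c⁻¹ * ((b : MulAut C4) ^ (2 * (n + 1))) c) ∈ V := (h0 _ _).2 he
          rw [map_mul, map_inv, ← MulAut.mul_apply, ← pow_succ'] at h1
          have h2 := V.mul_mem hbV h1
          show c * ((b : MulAut C4) ^ (2 * (n + 1) + 1)) c ∈ V
          simpa [mul_assoc] using h2
      exact (hstep j).2
  -- the two-part acts trivially on the four-group
  have hPV : ∀ q ∈ (P : Subgroup B), ∀ v : V, (q : MulAut C4) v = v := by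
    letI : MulAction (P : Subgroup B) V :=
      { smul := fun q v => ⟨((q : B) : MulAut C4) v, (hV _ _).2 v.2⟩
        one_smul := fun v => Subtype.ext rfl
        mul_smul := fun q r v => Subtype.ext rfl }
    let F : Subgroup V :=
      { carrier := {v | ∀ q : (P : Subgroup B), ((q : B) : MulAut C4) v = v}
        one_mem' := fun q => map_one _
        mul_mem' := fun {v w} hv hw q => by
          rw [Subgroup.coe_mul, map_mul, hv q, hw q]
        inv_mem' := fun {v} hv q => by rw [Subgroup.coe_inv, map_inv, hv q] }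
    have hmod := P.isPGroup'.card_modEq_card_fixedPoints V
    have hFeq : Nat.card (MulAction.fixedPoints (P : Subgroup B) V) = Nat.card F :=
      Nat.card_congr (Equiv.subtypeEquivRight fun v =>
        ⟨fun h q => congrArg Subtype.val (h q), fun h q => Subtype.ext (h q)⟩)
    rw [hFeq, hVcard] at hmod
    have hdvd : Nat.card F ∣ 4 := by
      have := F.card_subgroup_dvd_card
      rwa [hVcard] at this
    have hcases : Nat.card F = 2 ∨ Nat.card F = 4 := by
      have := Nat.le_of_dvd (by norm_num) hdvd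
      have h2 : Nat.card F % 2 = 0 := by rw [← hmod]
      have := (Nat.card_pos : 0 < Nat.card F)
      omega
    rcases hcases with h2 | h4
    · exfalso
      obtain ⟨v, hv1, hvu⟩ := (Nat.card_eq_two_iff' (1 : F)).1 h2
      refine hv1 (Subtype.ext (Subtype.ext (hfpf _ fun a => ?_)))
      have hmem : (⟨φ a ((v : V) : C4), (hV _ _).2 (v : V).2⟩ : V) ∈ F := fun q => by
        have hconj : (⟨φ a, a, rfl⟩ : B)⁻¹ * (q : B) * ⟨φ a, a, rfl⟩ ∈ (P : Subgroup B) :=
          hPn.conj_mem' _ q.2 _
        have h := v.2 ⟨_, hconj⟩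
        simp only [Subgroup.coe_mul, Subgroup.coe_inv, MulAut.mul_apply] at h
        show ((q : B) : MulAut C4) (φ a ((v : V) : C4)) = φ a ((v : V) : C4)
        exact (MulEquiv.symm_apply_eq _).1 h
      have hne : (⟨_, hmem⟩ : F) ≠ 1 := fun h => hv1 (Subtype.ext (Subtype.ext
        ((φ a).injective (((congrArg (fun z : F => ((z : V) : C4)) h : φ a _ = 1)).trans (map_one _).symm))))
      exact congrArg (fun z : F => ((z : V) : C4)) (hvu _ hne)
    · intro q hq v
      have htop : F = ⊤ := Subgroup.eq_top_of_card_eq F (h4.trans hVcard.symm)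
      exact (htop ▸ Subgroup.mem_top v : v ∈ F) ⟨q, hq⟩
  obtain ⟨v, hv, hvne⟩ : ∃ v : C4, v * v = 1 ∧ v ≠ 1 := by decide +kernel
  have hcv : c * v * c⁻¹ * (c * v * c⁻¹) = 1 := by
    rw [show c * v * c⁻¹ * (c * v * c⁻¹) = c * (v * v) * c⁻¹ by group, hv]; group
  have h1 := hPV p hp ⟨_, hcv⟩
  have h2 := hPV p hp ⟨v, hv⟩
  simp only at h1 h2
  rw [map_mul, map_mul, map_inv, h2] at h1
  obtain ⟨w, hw, hwe⟩ : ∃ w : C4, w * w = 1 ∧ (p : MulAut C4) c = c⁻¹ * w :=
    ⟨_, hpc, by group⟩
  rw [hwe] at h1
  exact alt_four_invert c v w hc hv hvne hw h1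

end Cfsg.Agent.Invol.FpfS3Free
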