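import Mathlib

/-!
Fixed cosets under a fixed-point-free operator group which is nilpotent modulo a normal subgroup
of coprime order: an invariant solvable subgroup has no other fixed coset.
-/

set_option autoImplicit false

namespace Cfsg.Agent.Invol.FpfS3Free

open Subgroup
open scoped commutatorElement

variable {A : Type*} [Group A] [Finite A]

section Module

variable {Q : Type*} [CommGroup Q] [Finite Q] (θ : A →* MulAut Q)

/-- The cocycle changed by a coboundary. -/
def shift (f : A → Q) (q : Q) (a : A) : Q := q⁻¹ * f a * θ a q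

theorem shift_cocycle {f : A → Q} (hf : ∀ a b, f (a * b) = f a * θ a (f b)) (q : Q) (a b : A) :
    shift θ f q (a * b) = shift θ f q a * θ a (shift θ f q b) := by
  simp only [shift, map_mul, map_inv, MulAut.mul_apply, hf]
  generalize θ a q = x
  generalize θ a (f b) = y
  generalize θ a (θ b q) = z
  have h1 : q⁻¹ * f a * x * (x⁻¹ * y * z) = q⁻¹ * f a * y * z := by group
  rw [h1]
  group

theorem cocycle_one {f : A → Q} (hf : ∀ a b, f (a * b) = f a * θ a (f b)) : f 1 = 1 := by
  simpa using hf 1 1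

/-- The cohomology of an irreducible module without fixed points vanishes. -/
theorem module_h1 (K : Subgroup A) [K.Normal] (hK : (Nat.card K).Coprime (Nat.card Q))
    (hN : Group.IsNilpotent (A ⧸ K))
    (hirr : ∀ S : Subgroup Q, (∀ a, ∀ q ∈ S, θ a q ∈ S) → S = ⊥ ∨ S = ⊤)
    (hfix : ∀ q : Q, (∀ a, θ a q = q) → q = 1)
    (f : A → Q) (hf : ∀ a b, f (a * b) = f a * θ a (f b)) :
    ∃ q : Q, ∀ a, shift θ f q a = 1 := by
  classical
  haveI : Fintype A := Fintype.ofFinite A
  -- averaging over the normal subgroup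
  obtain ⟨n, hn⟩ : ∃ n : Q, ∀ k ∈ K, shift θ f n k = 1 := by
    set P : Q := ∏ k : K, f k with hP
    have hsum : ∀ k : K, f k ^ Nat.card K * θ k P = P := by
      intro k
      have h1 : P = ∏ l : K, f ((k * l : K) : A) :=
        (Equiv.prod_comp (Equiv.mulLeft k) (fun l : K => f (l : A))).symm
      conv_rhs => rw [h1]
      simp only [Subgroup.coe_mul, hf, Finset.prod_mul_distrib, Finset.prod_const, Finset.card_univ]
      rw [Nat.card_eq_fintype_card, hP, map_prod]
    refine ⟨(powCoprime hK.symm).symm P, fun k hk => ?_⟩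
    have hpow : ((powCoprime hK.symm).symm P) ^ Nat.card K = P := (powCoprime hK.symm).apply_symm_apply P
    generalize (powCoprime hK.symm).symm P = n at hpow ⊢
    apply (powCoprime hK.symm).injective
    show shift θ f n k ^ Nat.card K = 1 ^ Nat.card K
    rw [one_pow, shift, mul_pow, mul_pow, inv_pow, ← map_pow, hpow]
    have := hsum ⟨k, hk⟩
    rw [mul_assoc, this, inv_mul_cancel]
  have hg := shift_cocycle θ hf n
  by_cases hKt : ∀ k ∈ K, ∀ q, θ k q = q
  swap
  · -- the fixed points of the normal subgroup are trivial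
    let S : Subgroup Q :=
      { carrier := {q | ∀ k ∈ K, θ k q = q}
        one_mem' := fun k _ => map_one _
        mul_mem' := fun ha hb k hk => by rw [map_mul, ha k hk, hb k hk]
        inv_mem' := fun ha k hk => by rw [map_inv, ha k hk] }
    have hS : S = ⊥ := (hirr S fun a q hq k hk => by
      have h := hq _ (‹K.Normal›.conj_mem' k hk a)
      rw [← MulAut.mul_apply, ← map_mul]
      rw [show k * a = a * (a⁻¹ * k * a) by group, map_mul, MulAut.mul_apply, h]).resolve_right
      fun h => hKt fun k hk q => (h ▸ Subgroup.mem_top q : q ∈ S) k hk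
    refine ⟨n, fun a => Subgroup.mem_bot.1 (hS ▸ fun k hk => ?_)⟩
    have h1 := hg k a
    rw [hn k hk, one_mul] at h1
    rw [← h1, show k * a = a * (a⁻¹ * k * a) by group, hg, hn _ (‹K.Normal›.conj_mem' k hk a),
      map_one, mul_one]
  set g := shift θ f n with hgdef
  let W : Subgroup A :=
    { carrier := {a | g a = 1 ∧ ∀ q, θ a q = q}
      one_mem' := ⟨cocycle_one θ hg, fun q => by rw [map_one, MulAut.one_apply]⟩
      mul_mem' := fun {a b} ha hb => ⟨by rw [hg, ha.1, hb.1, map_one, one_mul],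
        fun q => by rw [map_mul, MulAut.mul_apply, hb.2, ha.2]⟩
      inv_mem' := fun {a} ha => by
        have h2 : ∀ q, θ a⁻¹ q = q := fun q => by
          conv_lhs => rw [← ha.2 q]
          rw [← MulAut.mul_apply, ← map_mul, inv_mul_cancel, map_one, MulAut.one_apply]
        refine ⟨?_, h2⟩
        have h1 := hg a⁻¹ a
        rwa [inv_mul_cancel, cocycle_one θ hg, ha.1, map_one, mul_one, eq_comm] at h1 }
  haveI hW : W.Normal := ⟨fun w hw c => by
    have h2 : ∀ q, θ (c * w * c⁻¹) q = q := fun q => by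
      simp only [map_mul, MulAut.mul_apply, hw.2]
      rw [← MulAut.mul_apply, ← map_mul, mul_inv_cancel, map_one, MulAut.one_apply]
    refine ⟨?_, h2⟩
    rw [mul_assoc, hg, hg w, hw.1, one_mul, hw.2, ← hg, mul_inv_cancel, cocycle_one θ hg]⟩
  by_cases hWtop : W = ⊤
  · exact ⟨n, fun a => ((hWtop ▸ Subgroup.mem_top a : a ∈ W)).1⟩
  have hKW : K ≤ W := fun k hk => ⟨hn k hk, hKt k hk⟩
  haveI := hN
  haveI : Group.IsNilpotent (A ⧸ W) := Group.nilpotent_of_surjective
    (QuotientGroup.map K W (MonoidHom.id A) hKW) (fun x => by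
      induction x using QuotientGroup.induction_on with
      | _ a => exact ⟨QuotientGroup.mk a, rfl⟩)
  haveI : Nontrivial (A ⧸ W) := QuotientGroup.nontrivial_iff.2 hWtop
  haveI : Nontrivial (Subgroup.center (A ⧸ W)) :=
    (Subgroup.nontrivial_iff_ne_bot _).2 (Group.IsNilpotent.center_ne_bot _)
  obtain ⟨⟨zz, hzc⟩, hz1⟩ := exists_ne (1 : Subgroup.center (A ⧸ W))
  obtain ⟨z, rfl⟩ := QuotientGroup.mk_surjective zz
  have hzW : z ∉ W := fun h => hz1 (Subtype.ext ((QuotientGroup.eq_one_iff z).2 h))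
  have hcomm : ∀ a, ∃ w ∈ W, a * z = z * a * w := fun a => by
    have h := Subgroup.mem_center_iff.1 hzc (QuotientGroup.mk a)
    rw [← QuotientGroup.mk_mul, ← QuotientGroup.mk_mul, eq_comm, QuotientGroup.eq] at h
    exact ⟨_, h, by group⟩
  have hθ : ∀ a q, θ a (θ z q) = θ z (θ a q) := fun a q => by
    obtain ⟨w, hw, hwe⟩ := hcomm a
    rw [← MulAut.mul_apply, ← map_mul, hwe, map_mul, MulAut.mul_apply, hw.2, map_mul, MulAut.mul_apply]
  have hgz : ∀ a, g a * θ a (g z) = g z * θ z (g a) := fun a => by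
    obtain ⟨w, hw, hwe⟩ := hcomm a
    rw [← hg, hwe, hg (z * a), hw.1, map_one, mul_one, hg]
  let S : Subgroup Q :=
    { carrier := {q | θ z q = q}
      one_mem' := map_one _
      mul_mem' := fun {a b} (ha : θ z a = a) (hb : θ z b = b) => show θ z (a * b) = a * b by
        rw [map_mul, ha, hb]
      inv_mem' := fun {a} (ha : θ z a = a) => show θ z a⁻¹ = a⁻¹ by rw [map_inv, ha] }
  rcases hirr S (fun a q (hq : θ z q = q) => show θ z (θ a q) = θ a q by rw [← hθ, hq]) with hS | hS
  · have hinj : Function.Injective fun q : Q => q⁻¹ * θ z q := fun p q h => by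
      have hmem : p * q⁻¹ ∈ S := by
        show θ z (p * q⁻¹) = p * q⁻¹
        simp only at h
        rw [map_mul, map_inv, show θ z p = p * (q⁻¹ * θ z q) by rw [← h, mul_inv_cancel_left]]
        group
      exact mul_inv_eq_one.1 (Subgroup.mem_bot.1 (hS ▸ hmem))
    obtain ⟨q, hq⟩ := (Finite.injective_iff_surjective.1 hinj) (g z)⁻¹
    simp only at hq
    have hcy := shift_cocycle θ hg q
    have hz : shift θ g q z = 1 := by
      rw [shift, mul_comm q⁻¹ (g z), mul_assoc, hq, mul_inv_cancel]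
    have hw1 : ∀ w ∈ W, shift θ g q w = 1 := fun w hw => by
      rw [shift, hw.1, hw.2, mul_one, inv_mul_cancel]
    refine ⟨n * q, fun a => ?_⟩
    have h1 : shift θ g q a = 1 := by
      refine Subgroup.mem_bot.1 (hS ▸ ?_)
      show θ z (shift θ g q a) = shift θ g q a
      obtain ⟨w, hw, hwe⟩ := hcomm a
      have h := hcy a z
      rw [hwe, hcy (z * a), hw1 w hw, map_one, mul_one, hcy, hz, one_mul, map_one, mul_one] at h
      exact h
    rw [← h1, hgdef]
    simp only [shift, mul_inv_rev, map_mul]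
    simp only [mul_comm, mul_left_comm, mul_assoc]
  · exfalso
    have hz : ∀ q, θ z q = q := fun q => (hS ▸ Subgroup.mem_top q : q ∈ S)
    refine hzW ⟨hfix _ fun a => ?_, hz⟩
    have h := hgz a
    rw [hz, mul_comm (g z)] at h
    exact mul_left_cancel h

end Module

variable {G : Type*} [Group G] [Finite G]

/-- An invariant solvable subgroup has no other invariant left coset. -/
theorem mem_of_fixed_coset (φ : A →* MulAut G) (hfpf : ∀ g : G, (∀ a, φ a g = g) → g = 1)
    (K : Subgroup A) [K.Normal] (hK : (Nat.card K).Coprime (Nat.card G))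
    (hQ : Group.IsNilpotent (A ⧸ K)) (N : Subgroup G) (hN : Group.IsSolvable N)
    (hinv : ∀ a, ∀ x ∈ N, φ a x ∈ N) (u : G) (hu : ∀ a, u⁻¹ * φ a u ∈ N) : u ∈ N := by
  induction hc : Nat.card N using Nat.strong_induction_on generalizing N u with
  | _ c IH =>
  rcases eq_or_ne N ⊥ with rfl | hne
  · exact Subgroup.mem_bot.2 (hfpf u fun a => (inv_mul_eq_one.1 (Subgroup.mem_bot.1 (hu a))).symm)
  haveI := hN
  haveI : Nontrivial N := N.nontrivial_iff_ne_bot.2 hne
  have hlt : ⁅N, N⁆ < N := by
    refine lt_of_le_of_ne ((Subgroup.commutator_le).2 fun a ha b hb => ?_) fun h => ?_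
    · exact N.mul_mem (N.mul_mem (N.mul_mem ha hb) (N.inv_mem ha)) (N.inv_mem hb)
    · refine (Group.IsSolvable.commutator_lt_top_of_nontrivial N).ne ?_
      apply Subgroup.map_injective N.subtype_injective
      rw [map_subtype_commutator, ← MonoidHom.range_eq_map, Subgroup.range_subtype]
      exact h
  let Φ : Set (Subgroup G) := {M | ⁅N, N⁆ ≤ M ∧ M < N ∧ ∀ a, ∀ x ∈ M, φ a x ∈ M}
  have hΦ : Φ.Nonempty := by
    refine ⟨⁅N, N⁆, le_rfl, hlt, fun a x hx => ?_⟩
    have h1 : (⁅N, N⁆ : Subgroup G).map (φ a).toMonoidHom ≤ ⁅N, N⁆ := by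
      rw [Subgroup.map_commutator]
      have : N.map (φ a).toMonoidHom ≤ N := fun _ ⟨y, hy, e⟩ => e ▸ hinv a y hy
      exact Subgroup.commutator_mono this this
    exact h1 ⟨x, hx, rfl⟩
  obtain ⟨M, ⟨hMc, hMN, hMinv⟩, hmax⟩ := (Set.toFinite Φ).exists_maximal hΦ
  have IHM : ∀ v : G, (∀ a, v⁻¹ * φ a v ∈ M) → v ∈ M := fun v hv =>
    IH (Nat.card M) (hc ▸ Set.Finite.card_lt_card (Set.toFinite _) hMN) M
      (Group.isSolvable_of_isSolvable_injective (Subgroup.inclusion_injective hMN.le)) hMinv v hv rfl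
  haveI hMn : (M.subgroupOf N).Normal := ⟨fun m hm n => by
    rw [Subgroup.mem_subgroupOf] at hm ⊢
    have : ⁅(n : G), (m : G)⁆ ∈ M := hMc (Subgroup.commutator_mem_commutator n.2 m.2)
    simpa [commutatorElement_def, mul_assoc] using M.mul_mem this hm⟩
  let Q := ↥N ⧸ M.subgroupOf N
  letI : CommGroup Q :=
    { (inferInstance : Group Q) with
      mul_comm := fun a b => by
        induction a using QuotientGroup.induction_on with | _ a =>
        induction b using QuotientGroup.induction_on with | _ b =>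
        refine QuotientGroup.eq.2 (Subgroup.mem_subgroupOf.2 ?_)
        have : ⁅(b : G)⁻¹, (a : G)⁻¹⁆ ∈ M :=
          hMc (Subgroup.commutator_mem_commutator (N.inv_mem b.2) (N.inv_mem a.2))
        simpa [commutatorElement_def, mul_assoc] using this }
  let r : A → (↥N →* ↥N) := fun a =>
    ((φ a).toMonoidHom.comp N.subtype).codRestrict N fun x => hinv a x x.2
  let θ₀ : A → (Q →* Q) := fun a => QuotientGroup.map _ _ (r a) fun x hx =>
    Subgroup.mem_comap.2 (Subgroup.mem_subgroupOf.2 (hMinv a x (Subgroup.mem_subgroupOf.1 hx)))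
  have hθmul : ∀ a b (q : Q), θ₀ (a * b) q = θ₀ a (θ₀ b q) := fun a b q => by
    induction q using QuotientGroup.induction_on with | _ x =>
    refine congrArg (QuotientGroup.mk) (Subtype.ext ?_)
    show φ (a * b) x = φ a (φ b x)
    rw [map_mul, MulAut.mul_apply]
  have hθone : ∀ q : Q, θ₀ 1 q = q := fun q => by
    induction q using QuotientGroup.induction_on with | _ x =>
    refine congrArg (QuotientGroup.mk) (Subtype.ext ?_)
    show φ 1 x = x
    rw [map_one, MulAut.one_apply]
  let θ : A →* MulAut Q :=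
    MonoidHom.mk' (fun a => MonoidHom.toMulEquiv (θ₀ a) (θ₀ a⁻¹)
      (MonoidHom.ext fun q => by simp [← hθmul, hθone])
      (MonoidHom.ext fun q => by simp [← hθmul, hθone]))
      fun a b => MulEquiv.ext fun q => hθmul a b q
  let f : A → Q := fun a => QuotientGroup.mk (⟨u⁻¹ * φ a u, hu a⟩ : N)
  have hf : ∀ a b, f (a * b) = f a * θ a (f b) := fun a b => by
    show (QuotientGroup.mk _ : Q) = QuotientGroup.mk _ * θ₀ a (QuotientGroup.mk _)
    rw [QuotientGroup.map_mk, ← QuotientGroup.mk_mul]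
    refine congrArg QuotientGroup.mk (Subtype.ext ?_)
    show u⁻¹ * φ (a * b) u = u⁻¹ * φ a u * φ a (u⁻¹ * φ b u)
    rw [map_mul, MulAut.mul_apply, map_mul, map_inv]
    group
  have hfix : ∀ q : Q, (∀ a, θ a q = q) → q = 1 := fun q hq => by
    induction q using QuotientGroup.induction_on with | _ x =>
    refine (QuotientGroup.eq_one_iff x).2 (Subgroup.mem_subgroupOf.2 (IHM x fun a => ?_))
    have h := Subgroup.mem_subgroupOf.1 (QuotientGroup.eq.1 (hq a).symm)
    exact h
  have hirr : ∀ S : Subgroup Q, (∀ a, ∀ q ∈ S, θ a q ∈ S) → S = ⊥ ∨ S = ⊤ := fun S hS => by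
    let M' : Subgroup G := (S.comap (QuotientGroup.mk' _)).map N.subtype
    have hMM' : M ≤ M' := fun x hx => ⟨⟨x, hMN.le hx⟩, by
      show QuotientGroup.mk' _ _ ∈ S
      rw [QuotientGroup.mk'_apply, (QuotientGroup.eq_one_iff _).2 (Subgroup.mem_subgroupOf.2 hx)]
      exact S.one_mem, rfl⟩
    have hM'N : M' ≤ N := Subgroup.map_subtype_le _
    by_cases h : M' = N
    · right
      refine eq_top_iff.2 fun q _ => ?_
      induction q using QuotientGroup.induction_on with | _ x =>
      obtain ⟨y, hy, hyx⟩ := (h.symm ▸ x.2 : (x : G) ∈ M')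
      exact (Subtype.ext hyx : y = x) ▸ hy
    · left
      have hmem : M' ∈ Φ := ⟨hMc.trans hMM', lt_of_le_of_ne hM'N h, by
        rintro a _ ⟨x, hx, rfl⟩
        exact ⟨r a x, hS a _ hx, rfl⟩⟩
      have hle : M' ≤ M := hmax hmem hMM'
      refine eq_bot_iff.2 fun q hq => ?_
      induction q using QuotientGroup.induction_on with | _ x =>
      exact Subgroup.mem_bot.2 ((QuotientGroup.eq_one_iff x).2
        (Subgroup.mem_subgroupOf.2 (hle ⟨x, hq, rfl⟩)))
  have hcop : (Nat.card K).Coprime (Nat.card Q) :=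
    hK.coprime_dvd_right (((M.subgroupOf N).card_quotient_dvd_card).trans (Subgroup.card_subgroup_dvd_card N))
  obtain ⟨q, hq⟩ := module_h1 θ K hcop hQ hirr hfix f hf
  obtain ⟨x, rfl⟩ := QuotientGroup.mk_surjective q
  have hux : u * x ∈ M := IHM _ fun a => by
    have h := hq a
    simp only [shift] at h
    change (QuotientGroup.mk x : Q)⁻¹ * QuotientGroup.mk _ * θ₀ a (QuotientGroup.mk x) = 1 at h
    rw [QuotientGroup.map_mk, ← QuotientGroup.mk_inv, ← QuotientGroup.mk_mul, ← QuotientGroup.mk_mul,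
      QuotientGroup.eq_one_iff, Subgroup.mem_subgroupOf] at h
    change (x : G)⁻¹ * (u⁻¹ * φ a u) * φ a x ∈ M at h
    rw [map_mul]
    simpa [mul_assoc] using h
  simpa using N.mul_mem (hMN.le hux) (N.inv_mem x.2)

end Cfsg.Agent.Invol.FpfS3Free
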