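import Cfsg.Agent.Lib.Invol.FpfS3Free.Simple
import Cfsg.Agent.Lib.Spor.Gold.NoThreeNorm
import Cfsg.Agent.Lib.Invol.JankoWard.Ward
import Cfsg.Agent.Lib.Invol.AbelTwo.Hub
import Cfsg.Agent.S5914

/-!
A group without a section `S₃` having a fixed-point-free operator group which is nilpotent modulo a
normal subgroup of coprime order is solvable.
-/

set_option autoImplicit false
set_option linter.style.haveILetI false

namespace Cfsg.Agent.Invol.FpfS3Free

open Subgroup

universe u v

/-- Restriction of an action to an invariant subgroup. -/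
def restrictAct {G : Type u} [Group G] {A : Type v} [Group A] (φ : A →* MulAut G) (C : Subgroup G)
    (hC : ∀ a, ∀ x ∈ C, φ a x ∈ C) : A →* MulAut C :=
  MonoidHom.mk'
    (fun a => MonoidHom.toMulEquiv
      (((φ a).toMonoidHom.comp C.subtype).codRestrict _ fun x => hC a x x.2)
      (((φ a⁻¹).toMonoidHom.comp C.subtype).codRestrict _ fun x => hC a⁻¹ x x.2)
      (MonoidHom.ext fun x => Subtype.ext (show φ a⁻¹ (φ a x) = x by
        rw [← MulAut.mul_apply, ← map_mul, inv_mul_cancel, map_one, MulAut.one_apply]))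
      (MonoidHom.ext fun x => Subtype.ext (show φ a (φ a⁻¹ x) = x by
        rw [← MulAut.mul_apply, ← map_mul, mul_inv_cancel, map_one, MulAut.one_apply])))
    fun a b => MulEquiv.ext fun x => Subtype.ext (show φ (a * b) x = φ a (φ b x) by
      rw [map_mul, MulAut.mul_apply])

theorem restrictAct_fpf {G : Type u} [Group G] {A : Type v} [Group A] (φ : A →* MulAut G)
    (hfpf : ∀ g : G, (∀ a, φ a g = g) → g = 1) (C : Subgroup G) (hC : ∀ a, ∀ x ∈ C, φ a x ∈ C)
    (g : C) (hg : ∀ a, restrictAct φ C hC a g = g) : g = 1 :=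
  Subtype.ext (hfpf g fun a => congrArg Subtype.val (hg a))

/-- The action induced on the quotient by an invariant normal subgroup. -/
def quotAct {G : Type u} [Group G] {A : Type v} [Group A] (φ : A →* MulAut G) (N : Subgroup G)
    [N.Normal] (hN : ∀ a, ∀ x ∈ N, φ a x ∈ N) : A →* MulAut (G ⧸ N) :=
  MonoidHom.mk'
    (fun a => QuotientGroup.congr N N (φ a) (le_antisymm (fun _ ⟨y, hy, e⟩ => e ▸ hN a y hy) fun x hx =>
      ⟨φ a⁻¹ x, hN _ x hx, show φ a (φ a⁻¹ x) = x by
        rw [← MulAut.mul_apply, ← map_mul, mul_inv_cancel, map_one, MulAut.one_apply]⟩))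
    fun a b => MulEquiv.ext fun x => by
      induction x using QuotientGroup.induction_on with | _ x =>
      show (QuotientGroup.mk (φ (a * b) x) : G ⧸ N) = QuotientGroup.mk (φ a (φ b x))
      rw [map_mul, MulAut.mul_apply]

theorem not_involves_of_surjective {G : Type u} [Group G] {X : Type u} [Group X]
    (h3 : ¬ Cfsg.Involves (Equiv.Perm (Fin 3)) G) (H : Subgroup G) (f : H →* X)
    (hf : Function.Surjective f) : ¬ Cfsg.Involves (Equiv.Perm (Fin 3)) X := fun h =>
  h3 ((isSectionOf_of_involves h).trans ⟨H, f, hf⟩).involves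

theorem card_lt_of_ne_top {G : Type u} [Group G] [Finite G] {C : Subgroup G} (hC : C ≠ ⊤) :
    Nat.card C < Nat.card G :=
  lt_of_le_of_ne (Nat.le_of_dvd Nat.card_pos C.card_subgroup_dvd_card) fun h => hC (Subgroup.eq_top_of_card_eq C h)

theorem solvable_of_fpf : ∀ (n : ℕ) (G : Type u) [Group G] [Finite G], Nat.card G = n →
    ¬ Cfsg.Involves (Equiv.Perm (Fin 3)) G → ∀ (A : Type v) [Group A] [Finite A] (φ : A →* MulAut G),
      (∀ g : G, (∀ a, φ a g = g) → g = 1) → ∀ (K : Subgroup A) [K.Normal],
        (Nat.card K).Coprime (Nat.card G) → Group.IsNilpotent (A ⧸ K) → Group.IsSolvable G := by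
  intro n
  induction n using Nat.strong_induction_on with
  | _ n IH =>
  intro G _ _ hn h3 A _ _ φ₀ hfpf₀ K _ hK hQ
  -- proper invariant subgroups are solvable
  have hprop : ∀ (φ : A →* MulAut G), (∀ g : G, (∀ a, φ a g = g) → g = 1) →
      ∀ C : Subgroup G, C ≠ ⊤ → (∀ a, ∀ x ∈ C, φ a x ∈ C) → Group.IsSolvable C := by
    intro φ hfpf C hC hinv
    exact IH (Nat.card C) (hn ▸ card_lt_of_ne_top hC) C rfl
      (not_involves_of_surjective h3 C (MonoidHom.id C) fun x => ⟨x, rfl⟩) A (restrictAct φ C hinv)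
      (restrictAct_fpf φ hfpf C hinv) K (hK.coprime_dvd_right C.card_subgroup_dvd_card) hQ
  by_contra hns
  -- no proper invariant normal subgroup
  have hchar : ∀ N : Subgroup G, N.Normal → (∀ a, ∀ x ∈ N, φ₀ a x ∈ N) → N = ⊥ ∨ N = ⊤ := by
    intro N hNn hinv
    by_contra h
    rw [not_or] at h
    haveI := hNn
    haveI hNsol : Group.IsSolvable N := hprop φ₀ hfpf₀ N h.2 hinv
    have hQfpf : ∀ q : G ⧸ N, (∀ a, quotAct φ₀ N hinv a q = q) → q = 1 := by
      intro q hq
      induction q using QuotientGroup.induction_on with | _ u =>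
      exact (QuotientGroup.eq_one_iff u).2 (mem_of_fixed_coset φ₀ hfpf₀ K hK hQ N hNsol hinv u
        fun a => QuotientGroup.eq.1 (hq a).symm)
    have hlt : Nat.card (G ⧸ N) < n := by
      rw [← hn, Subgroup.card_eq_card_quotient_mul_card_subgroup N]
      exact lt_mul_of_one_lt_right Nat.card_pos ((Subgroup.one_lt_card_iff_ne_bot N).2 h.1)
    haveI := IH _ hlt (G ⧸ N) rfl
      (not_involves_of_surjective h3 ⊤ ((QuotientGroup.mk' N).comp Subgroup.topEquiv.toMonoidHom)
        (fun x => by obtain ⟨y, rfl⟩ := QuotientGroup.mk'_surjective N x; exact ⟨⟨y, mem_top y⟩, rfl⟩))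
      A (quotAct φ₀ N hinv) hQfpf K (hK.coprime_dvd_right N.card_quotient_dvd_card) hQ
    exact hns ((Group.isSolvable_iff_subgroup_quotient N).2 ⟨inferInstance, inferInstance⟩)
  haveI : Nontrivial G := by
    by_contra h
    rw [not_nontrivial_iff_subsingleton] at h
    exact hns (Group.isSolvable_of_comm fun a b => Subsingleton.elim _ _)
  obtain ⟨S, _, hS, m, hm, ⟨e⟩⟩ := (S5914.result (G := G)).1 fun H hH =>
    hchar H inferInstance fun a x hx => by
      have h := hH.fixed (φ₀ a)
      rw [← h] at hx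
      exact hx
  by_cases hSc : IsMulCommutative S
  · haveI : IsMulCommutative G := ⟨⟨fun a b => e.injective (by
      rw [map_mul, map_mul]
      funext i
      exact hSc.is_comm.comm _ _)⟩⟩
    exact hns (Group.isSolvable_of_comm fun a b => (inferInstance : IsMulCommutative G).is_comm.comm a b)
  -- the first factor
  let i₀ : Fin m := ⟨0, hm⟩
  let ι : S →* G := e.symm.toMonoidHom.comp (MonoidHom.mulSingle (fun _ : Fin m => S) i₀)
  have hι : Function.Injective ι := e.symm.injective.comp (show Function.Injective (MonoidHom.mulSingle (fun _ : Fin m => S) i₀) from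
      fun a b h => by simpa using congrFun h i₀)
  set T₁ : Subgroup G := ι.range with hT₁
  haveI hT₁s : IsSimpleGroup T₁ := (MonoidHom.ofInjective hι).symm.isSimpleGroup
  have hT₁na : ¬ IsMulCommutative T₁ := fun h => hSc ⟨⟨fun a b => hι (by
    rw [map_mul, map_mul]
    exact congrArg Subtype.val (h.is_comm.comm ⟨ι a, a, rfl⟩ ⟨ι b, b, rfl⟩))⟩⟩
  have hT₁n : T₁.Normal := ⟨by
    rintro _ ⟨s, rfl⟩ g
    refine ⟨e g i₀ * s * (e g i₀)⁻¹, e.injective ?_⟩
    show e (e.symm (Pi.mulSingle i₀ _)) = e (g * e.symm (Pi.mulSingle i₀ s) * g⁻¹)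
    rw [e.apply_symm_apply, map_mul, map_mul, map_inv, e.apply_symm_apply]
    funext i
    rcases eq_or_ne i i₀ with rfl | hi
    · simp
    · simp [Pi.mulSingle_eq_of_ne hi]⟩
  by_cases hT₁top : T₁ = ⊤
  · -- a simple group
    haveI : IsSimpleGroup G := ((MulEquiv.subgroupCongr hT₁top).trans Subgroup.topEquiv).symm.isSimpleGroup
    have hna : ¬ IsMulCommutative G := fun h => hT₁na ⟨⟨fun a b => Subtype.ext (h.is_comm.comm _ _)⟩⟩
    have hgood : ∀ {T : Type} [Group T] (_ : G ≃* T), GoodModel T → False := by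
      intro T _ eT hgood
      haveI : Finite T := Finite.of_equiv G eT.toEquiv
      haveI : IsSimpleGroup T := eT.symm.isSimpleGroup
      have hnaT : ¬ IsMulCommutative T := fun h => hna ⟨⟨fun a b => eT.injective (by
        rw [map_mul, map_mul, h.is_comm.comm])⟩⟩
      let φT : A →* MulAut T := (MulAut.congr eT).toMonoidHom.comp φ₀
      have hback : ∀ (φ : A →* MulAut T), (∀ g : T, (∀ a, φ a g = g) → g = 1) →
          ∀ C : Subgroup T, C ≠ ⊤ → (∀ a, ∀ x ∈ C, φ a x ∈ C) → Group.IsSolvable C := by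
        intro φ hfpf C hC hinv
        haveI := hprop ((MulAut.congr eT.symm).toMonoidHom.comp φ) (fun g hg => by
          refine eT.injective ((hfpf (eT g) fun a => ?_).trans (map_one eT).symm)
          have h := congrArg eT (hg a)
          simpa using h) (C.comap eT.toMonoidHom) (fun h => hC (by
            refine eq_top_iff.2 fun x _ => ?_
            have : eT.symm x ∈ C.comap eT.toMonoidHom := h ▸ Subgroup.mem_top _
            simpa using this)) fun a x hx => by
              have := hinv a (eT x) hx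
              simpa using this
        exact Group.isSolvable_of_surjective (f := (eT.toMonoidHom.comp (C.comap eT.toMonoidHom).subtype).codRestrict C fun x => x.2)
          fun y => ⟨⟨eT.symm y, show eT (eT.symm y) ∈ C by rw [eT.apply_symm_apply]; exact y.2⟩,
            Subtype.ext (eT.apply_symm_apply _)⟩
      refine simple_false hnaT hgood φT (fun g hg => ?_) K (by rwa [← Nat.card_congr eT.toEquiv]) hQ hback
      refine eT.symm.injective ((hfpf₀ (eT.symm g) fun a => ?_).trans (map_one eT.symm).symm)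
      have h := congrArg eT.symm (hg a)
      simpa [φT] using h
    rcases AbelTwo.threeFree_simple (AbelTwo.jrRec_of_hub JankoWard.ward) hna h3 with ⟨F, _, _, k, hk, hF, ⟨f⟩⟩ | ⟨F, _, _, k, hF, ⟨f⟩⟩
    · exact hgood (f.trans (Suz.szEquiv (⟨hk, hF⟩ : Suz.SzField F k)).symm) (good_sz ⟨hk, hF⟩)
    · exact hgood f (good_psl hF)
  -- several factors: the stabiliser of the first acts fixed-point-freely on it
  let A₁ : Subgroup A :=
    { carrier := {a | ∀ x, φ₀ a x ∈ T₁ ↔ x ∈ T₁}
      one_mem' := fun x => by rw [map_one, MulAut.one_apply]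
      mul_mem' := fun {a b} ha hb x => by rw [map_mul, MulAut.mul_apply, ha, hb]
      inv_mem' := fun {a} ha x => by
        rw [← ha (φ₀ a⁻¹ x), ← MulAut.mul_apply, ← map_mul, mul_inv_cancel, map_one, MulAut.one_apply] }
  have hinv₁ : ∀ a : A₁, ∀ x ∈ T₁, (φ₀.comp A₁.subtype) a x ∈ T₁ := fun a x hx => (a.2 x).2 hx
  have hfpf₁ : ∀ x : T₁, (∀ a, restrictAct (φ₀.comp A₁.subtype) T₁ hinv₁ a x = x) → x = 1 := by
    intro x hx
    have hfix : ∀ a ∈ A₁, φ₀ a (x : G) = x := fun a ha => congrArg Subtype.val (hx ⟨a, ha⟩)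
    classical
    haveI : Fintype A := Fintype.ofFinite A
    let O : Finset G := Finset.univ.image fun a : A => φ₀ a (x : G)
    have hdist : ∀ a b : A, φ₀ a (x : G) ≠ φ₀ b (x : G) → ∀ t ∈ T₁, ∀ t' ∈ T₁,
        Commute (φ₀ a t) (φ₀ b t') := by
      intro a b hab t ht t' ht'
      have hna : b⁻¹ * a ∉ A₁ := fun h => hab (by
        have := congrArg (φ₀ b) (hfix _ h)
        rwa [← MulAut.mul_apply, ← map_mul, mul_inv_cancel_left] at this)
      set T₂ := T₁.map (φ₀ (b⁻¹ * a)).toMonoidHom with hT₂
      haveI : T₂.Normal := hT₁n.map _ (φ₀ (b⁻¹ * a)).surjective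
      have hne : T₂ ≠ T₁ := fun h => hna fun y => ⟨fun hy => by
          rw [← h] at hy
          obtain ⟨z, hz, hze⟩ := hy
          exact (φ₀ (b⁻¹ * a)).injective hze ▸ hz,
        fun hy => h ▸ ⟨y, hy, rfl⟩⟩
      have hdis : Disjoint T₂ T₁ := by
        haveI := hT₁n
        haveI : IsSimpleGroup T₂ :=
          (Subgroup.equivMapOfInjective T₁ _ (φ₀ (b⁻¹ * a)).injective).symm.isSimpleGroup
        rw [disjoint_iff]
        rcases ((inferInstance : ((T₂ ⊓ T₁).subgroupOf T₁).Normal)).eq_bot_or_eq_top with h | h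
        · rw [Subgroup.subgroupOf_eq_bot, disjoint_iff, inf_assoc, inf_idem] at h
          exact h
        · rw [Subgroup.subgroupOf_eq_top] at h
          exfalso
          have hle : T₁ ≤ T₂ := le_trans h inf_le_left
          exact hne (Subgroup.eq_of_le_of_card_ge hle (by
            rw [hT₂, Subgroup.card_map_of_injective (φ₀ (b⁻¹ * a)).injective])).symm
      have := (Subgroup.commute_of_normal_of_disjoint T₂ T₁ ‹_› hT₁n hdis _ t' ⟨t, ht, rfl⟩ ht').map
        (φ₀ b).toMonoidHom
      simpa [← MulAut.mul_apply, ← map_mul] using this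
    have hcomm : (O : Set G).Pairwise (Function.onFun Commute id) := by
      intro p hp q hq hpq
      obtain ⟨a, -, rfl⟩ := Finset.mem_image.1 hp
      obtain ⟨b, -, rfl⟩ := Finset.mem_image.1 hq
      exact hdist a b hpq _ x.2 _ x.2
    set y := O.noncommProd id hcomm with hy
    have hy1 : y = 1 := hfpf₀ y fun a => by
      rw [hy, Finset.map_noncommProd]
      have himg : O.image (φ₀ a) = O := by
        apply Finset.eq_of_subset_of_card_le
        · intro p hp
          simp only [O, Finset.mem_image] at hp ⊢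
          obtain ⟨_, ⟨b, -, rfl⟩, rfl⟩ := hp
          exact ⟨a * b, Finset.mem_univ _, by rw [map_mul, MulAut.mul_apply]⟩
        · rw [Finset.card_image_of_injective _ (φ₀ a).injective]
      simp only [Finset.noncommProd, Function.id_def]
      congr 1
      have h2 := congrArg Finset.val himg
      rw [Finset.image_val_of_injOn (φ₀ a).injective.injOn] at h2
      simpa using h2
    have hxO : (x : G) ∈ O := Finset.mem_image.2 ⟨1, Finset.mem_univ _, by rw [map_one, MulAut.one_apply]⟩
    have hrest : (O.erase (x : G)).noncommProd id (fun p hp q hq h =>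
        hcomm (Finset.mem_of_mem_erase hp) (Finset.mem_of_mem_erase hq) h) * (x : G) = 1 := by
      rw [← hy1, hy]
      exact Finset.noncommProd_erase_mul O hxO id hcomm
    have hcen : ∀ t ∈ T₁, Commute t (x : G) := by
      intro t ht
      have hc : Commute t ((O.erase (x : G)).noncommProd id (fun p hp q hq h =>
          hcomm (Finset.mem_of_mem_erase hp) (Finset.mem_of_mem_erase hq) h)) := by
        refine Finset.noncommProd_commute _ _ _ _ fun p hp => ?_
        obtain ⟨a, -, rfl⟩ := Finset.mem_image.1 (Finset.mem_of_mem_erase hp)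
        have := (hdist a 1 (by rw [map_one, MulAut.one_apply]; exact Finset.ne_of_mem_erase hp) _ x.2 t ht).symm
        simpa using this
      rw [eq_inv_of_mul_eq_one_right hrest]
      exact hc.inv_right
    have hxc : x ∈ center T₁ := mem_center_iff.2 fun t => Subtype.ext (hcen t t.2).eq
    rcases (inferInstance : (center T₁).Normal).eq_bot_or_eq_top with h | h
    · exact Subgroup.mem_bot.1 (h ▸ hxc)
    · exact absurd ⟨⟨fun a b => (mem_center_iff.1 (h ▸ mem_top b) a)⟩⟩ hT₁na
  haveI := IH (Nat.card T₁) (hn ▸ card_lt_of_ne_top hT₁top) T₁ rfl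
    (not_involves_of_surjective h3 T₁ (MonoidHom.id T₁) fun x => ⟨x, rfl⟩) A₁
    (restrictAct (φ₀.comp A₁.subtype) T₁ hinv₁) hfpf₁ (K.subgroupOf A₁)
    (Nat.Coprime.coprime_dvd_left (Subgroup.card_comap_dvd_of_injective K A₁.subtype A₁.subtype_injective)
      (hK.coprime_dvd_right T₁.card_subgroup_dvd_card))
    (by
      haveI := hQ
      let j : ↥A₁ ⧸ K.subgroupOf A₁ →* A ⧸ K := QuotientGroup.map _ _ A₁.subtype fun x hx => hx
      have hj : Function.Injective j := by
        refine (MonoidHom.ker_eq_bot_iff _).1 (Subgroup.eq_bot_iff_forall _ |>.2 fun q hq => ?_)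
        induction q using QuotientGroup.induction_on with | _ q =>
        exact (QuotientGroup.eq_one_iff q).2 ((QuotientGroup.eq_one_iff (N := K) (q : A)).1 (MonoidHom.mem_ker.1 hq))
      exact Group.nilpotent_of_mulEquiv (MonoidHom.ofInjective hj).symm)
  exact hT₁na ⟨⟨(IsSimpleGroup.comm_iff_isSolvable (G := T₁)).2 inferInstance⟩⟩

end Cfsg.Agent.Invol.FpfS3Free
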