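import Cfsg.Agent.Lib.Classical.SThree.Models
import Cfsg.Agent.Lib.Lie.Sz.Maximal
import Cfsg.Agent.Lib.Classical.SLTwoSmall
import Cfsg.Agent.S0251

/-!
The automorphisms of `Sz(2^(2m+1))` and `PSL₂(3^(2n+1))`: a cyclic group of standard
representatives, their fixed points, and the centralisers of those of prime order.
-/

set_option autoImplicit false
set_option linter.unusedSectionVars false

namespace Cfsg.Agent.Invol.FpfS3Free

universe u

/-- The fixed points of an automorphism. -/
def fixedSub {T : Type u} [Group T] (s : MulAut T) : Subgroup T where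
  carrier := {x | s x = x}
  one_mem' := map_one _
  mul_mem' := fun {a b} (ha : s a = a) (hb : s b = b) => show s (a * b) = a * b by rw [map_mul, ha, hb]
  inv_mem' := fun {a} (ha : s a = a) => show s a⁻¹ = a⁻¹ by rw [map_inv, ha]

theorem mem_fixedSub {T : Type u} [Group T] {s : MulAut T} {x : T} : x ∈ fixedSub s ↔ s x = x := Iff.rfl

/-- A cyclic group of representatives of the outer automorphisms with good fixed points. -/
def GoodModel (T : Type u) [Group T] : Prop :=
  ∃ S : Subgroup (MulAut T), IsCyclic S ∧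
    (∀ f : MulAut T, ∃ t : T, ∃ s ∈ S, f = MulAut.conj t * s) ∧
    (∀ s ∈ S, ∃ x : T, x ≠ 1 ∧ s x = x) ∧
    ∀ s ∈ S, (orderOf s).Prime → (orderOf s).Coprime (Nat.card T) → Group.IsSolvable (fixedSub s) →
      (∀ s' ∈ S, ∀ x ∈ fixedSub s, s' x = x) ∨
        Nonempty (fixedSub s ≃* alternatingGroup (Fin 4))

section Sz

open Cfsg.Agent.Suz

variable {F : Type u} [Field F] [Fintype F] {m : ℕ}

theorem good_sz (hS : SzField F m) : GoodModel ↥(Cfsg.Sz F m) := by
  haveI : Fact (Nat.Prime 2) := ⟨Nat.prime_two⟩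
  haveI := charP hS
  haveI : Finite (RingAut F) := Finite.of_injective (fun τ => (τ : F → F)) DFunLike.coe_injective
  have hmul : ∀ σ τ : RingAut F, fieldAut hS (σ * τ) = fieldAut hS σ * fieldAut hS τ := fun σ τ => by
    refine MulEquiv.toMonoidHom_injective (aut_ext hS (fun a b => ?_) (fun z => ?_) ?_)
    · show fieldAut hS (σ * τ) (uS hS a b) = fieldAut hS σ (fieldAut hS τ (uS hS a b))
      rw [fieldAut_uS, fieldAut_uS, fieldAut_uS]; rfl
    · show fieldAut hS (σ * τ) (hTor hS z) = fieldAut hS σ (fieldAut hS τ (hTor hS z))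
      rw [fieldAut_hTor, fieldAut_hTor, fieldAut_hTor]; rfl
    · show fieldAut hS (σ * τ) (wS hS) = fieldAut hS σ (fieldAut hS τ (wS hS))
      have hw : ∀ ρ : RingAut F, fieldAut hS ρ (wS hS) = wS hS := fun ρ => fieldHom_wS hS hS ρ.toRingHom (fun x => map_pow ρ x _)
      rw [hw, hw, hw]
  let ρ : RingAut F →* MulAut ↥(Cfsg.Sz F m) := MonoidHom.mk' (fun σ => fieldAut hS σ) hmul
  haveI := (Classical.PSLAut.card_ringAut (F := F) (p := 2) hS.card).1
  refine ⟨ρ.range, isCyclic_of_surjective ρ.rangeRestrict ρ.rangeRestrict_surjective, fun f => ?_, ?_, ?_⟩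
  · obtain ⟨g, σ, hf⟩ := exists_decomp hS f
    exact ⟨g, _, ⟨σ, rfl⟩, hf⟩
  · rintro _ ⟨σ, rfl⟩
    refine ⟨uS hS 1 0, uS_ne_one hS (by simp), ?_⟩
    show fieldAut hS σ (uS hS 1 0) = _
    rw [fieldAut_uS, map_one, map_zero]
  · rintro _ ⟨σ, rfl⟩ - - hsol
    left
    obtain ⟨d, hd⟩ : orderOf σ ∣ 2 * m + 1 :=
      (Classical.PSLAut.card_ringAut (F := F) (p := 2) hS.card).2 ▸ orderOf_dvd_natCard σ
    by_cases hd1 : d = 1
    · subst hd1
      rw [mul_one] at hd
      have htop : Subgroup.zpowers σ = ⊤ := Subgroup.eq_top_of_card_eq _ (by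
        rw [Nat.card_zpowers, ← hd, (Classical.PSLAut.card_ringAut (F := F) (p := 2) hS.card).2])
      rintro _ ⟨τ, rfl⟩ x hx
      obtain ⟨i, rfl⟩ := Subgroup.mem_zpowers_iff.1 (htop ▸ Subgroup.mem_top τ : τ ∈ Subgroup.zpowers σ)
      rw [map_zpow]
      exact (Subgroup.zpowers_le.2 (show ρ σ ∈ MulAction.stabilizer (MulAut _) x from hx)
        (Subgroup.zpow_mem_zpowers (ρ σ) i))
    · exfalso
      obtain ⟨k, rfl⟩ : Odd d := Odd.of_dvd_nat (odd_two_mul_add_one m) (hd ▸ dvd_mul_left _ _)
      letI : Fintype (GaloisField 2 (2 * k + 1)) := Fintype.ofFinite _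
      have hKc : Fintype.card (GaloisField 2 (2 * k + 1)) = 2 ^ (2 * k + 1) := by
        rw [← Nat.card_eq_fintype_card]; exact GaloisField.card 2 _ (by omega)
      have hK : SzField (GaloisField 2 (2 * k + 1)) k := ⟨by omega, hKc⟩
      obtain ⟨-, -, j, hj⟩ := Classical.PSLAut.exists_fixed_embedding (p := 2) hS.card (σ := σ) rfl
        (GaloisField 2 (2 * k + 1)) (by rw [hKc, hd, Nat.mul_div_cancel_left _ (orderOf_pos σ)])
      have hι := ι_th (m := m) hK (hd ▸ dvd_mul_left _ _) j
      have hle : ∀ g, fieldHom hS hK j hι g ∈ fixedSub (ρ σ) := by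
        intro g
        have he : (fieldAut hS σ).toMonoidHom.comp (fieldHom hS hK j hι) = fieldHom hS hK j hι := by
          refine MonoidHom.eq_of_eqOn_dense (closure_eq_top hK) ?_
          rintro x (hx | rfl)
          · obtain ⟨a, b, z, rfl⟩ := borel_eq hK hx
            have hu : Units.map σ.toRingHom.toMonoidHom (Units.map j.toMonoidHom z) =
                Units.map j.toMonoidHom z := Units.ext ((hj _).2 ⟨_, rfl⟩)
            show fieldAut hS σ (fieldHom hS hK j hι _) = _
            rw [map_mul, fieldHom_uS, fieldHom_hTor, map_mul, fieldAut_uS, fieldAut_hTor,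
              (hj _).2 ⟨a, rfl⟩, (hj _).2 ⟨b, rfl⟩, hu]
          · show fieldAut hS σ (fieldHom hS hK j hι _) = _
            rw [fieldHom_wS]
            exact fieldHom_wS hS hS σ.toRingHom (fun x => map_pow σ x _)
        exact DFunLike.congr_fun he g
      haveI := hsol
      exact not_solvable hK (Group.isSolvable_of_isSolvable_injective
        (f := (fieldHom hS hK j hι).codRestrict _ hle) fun a b h =>
          fieldHom_injective hS hK j hι (congrArg Subtype.val h))

end Sz

section PSL

open Cfsg.Agent.Classical Cfsg.Agent.Classical.PSLAut Cfsg.Agent.Classical.Descent Matrix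

variable {F : Type u} [Field F] [Fintype F] {n : ℕ}

local notation "PSL₂" => Matrix.ProjectiveSpecialLinearGroup (Fin 2) F

theorem conj_mem_of_square (g₀ : GL (Fin 2) F)
    (hg₀ : IsSquare (Matrix.GeneralLinearGroup.det g₀ : F)) :
    inndiagHom 2 F g₀ ∈ (MulAut.conj : PSL₂ →* MulAut PSL₂).range := by
  obtain ⟨c, hc⟩ := hg₀
  have hc0 : c ≠ 0 := fun e =>
    (Matrix.GeneralLinearGroup.det g₀).ne_zero (by rw [hc, e, mul_zero])
  let cu : Fˣ := Units.mk0 c hc0
  have hdet : ((cu⁻¹ : Fˣ) • (g₀ : Matrix (Fin 2) (Fin 2) F)).det = 1 := by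
    rw [Units.smul_def, Matrix.det_smul, Fintype.card_fin,
      show (g₀ : Matrix (Fin 2) (Fin 2) F).det = c * c by rw [← hc]; rfl]
    simp [cu, hc0, pow_two]
    field_simp
  let S₀ : Matrix.SpecialLinearGroup (Fin 2) F := ⟨_, hdet⟩
  refine ⟨slToPSL 2 F S₀, ?_⟩
  rw [PSLAut.conj_eq_pslSemi]
  have h2 : g₀ = Matrix.GeneralLinearGroup.scalar (Fin 2) cu * Matrix.SpecialLinearGroup.toGL S₀ := by
    refine Units.ext ?_
    rw [Units.val_mul, Matrix.GeneralLinearGroup.coe_scalar, Matrix.scalar_apply,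
      ← Matrix.smul_eq_diagonal_mul]
    show _ = (cu : F) • ((cu⁻¹ : Fˣ) • (g₀ : Matrix (Fin 2) (Fin 2) F))
    rw [Units.smul_def, smul_smul, ← Units.val_mul, mul_inv_cancel, Units.val_one, one_smul]
  conv_rhs => rw [h2, map_mul, PSLAut.inndiagHom_apply,
    (PSLAut.pslSemi_eq_one_iff le_rfl).2 ⟨rfl, cu, rfl⟩, one_mul, PSLAut.inndiagHom_apply]

theorem pslSemi_one_pow (σ : RingAut F) (k : ℕ) :
    (pslSemi (n := 2) 1 σ : MulAut PSL₂) ^ k = pslSemi 1 (σ ^ k) := by
  induction k with
  | zero => exact pslSemi_one.symm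
  | succ k ih =>
    rw [pow_succ, ih, pslSemi_mul', map_one, mul_one, pow_succ]

theorem psl_two_not_solvable (K : Type*) [Field K] [Fintype K] (h4 : 4 ≤ Fintype.card K)
    (h2 : (2 : K) ≠ 1) : ¬ Group.IsSolvable (Matrix.ProjectiveSpecialLinearGroup (Fin 2) K) := by
  intro h
  haveI : IsSimpleGroup (Matrix.ProjectiveSpecialLinearGroup (Fin 2) K) :=
    Classical.PSL_isSimple le_rfl fun _ => by omega
  let U : SpecialLinearGroup (Fin 2) K := ⟨!![1, 1; 0, 1], by simp [Matrix.det_fin_two]⟩
  let L : SpecialLinearGroup (Fin 2) K := ⟨!![1, 0; 1, 1], by simp [Matrix.det_fin_two]⟩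
  have hc := (IsSimpleGroup.comm_iff_isSolvable (G := Matrix.ProjectiveSpecialLinearGroup (Fin 2) K)).2 h
    (slToPSL 2 K U) (slToPSL 2 K L)
  have h1 : slToPSL 2 K ((L * U)⁻¹ * (U * L)) = 1 := by
    rw [map_mul, map_inv, map_mul, map_mul, hc, inv_mul_cancel]
  obtain ⟨c, hcs⟩ := (slToPSL_eq_one_iff _).1 h1
  have hmat : (U : Matrix (Fin 2) (Fin 2) K) * (L : Matrix (Fin 2) (Fin 2) K) =
      (L : Matrix (Fin 2) (Fin 2) K) * (U : Matrix (Fin 2) (Fin 2) K) * Matrix.scalar (Fin 2) c := by
    rw [← hcs]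
    show ((U * L : SpecialLinearGroup (Fin 2) K) : Matrix (Fin 2) (Fin 2) K) =
      ((L * U * ((L * U)⁻¹ * (U * L)) : SpecialLinearGroup (Fin 2) K) : Matrix (Fin 2) (Fin 2) K)
    exact congrArg _ (mul_inv_cancel_left _ _).symm
  have h00 := congrFun (congrFun hmat 0) 0
  have h01 := congrFun (congrFun hmat 0) 1
  simp [U, L, Matrix.mul_apply, Fin.sum_univ_two] at h00 h01
  exact h2 (by linear_combination h00 - h01)

theorem good_psl (hF : Fintype.card F = 3 ^ (2 * n + 1)) : GoodModel PSL₂ := by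
  haveI : Fact (Nat.Prime 3) := ⟨Nat.prime_three⟩
  obtain ⟨h8, hodd, hch⟩ := Classical.SThree.card_facts hF
  have h3 : (3 : F) = 0 := by exact_mod_cast CharP.cast_eq_zero F 3
  have h2F : (2 : F) ≠ 0 := fun h => one_ne_zero (α := F) (by linear_combination h3 - h)
  obtain ⟨hcyc, hcard⟩ := PSLAut.card_ringAut (F := F) hF
  haveI : Finite (RingAut F) := Finite.of_injective (fun τ => (τ : F → F)) DFunLike.coe_injective
  obtain ⟨σ₀, hσ₀⟩ := hcyc.exists_generator
  obtain ⟨d, hd1, hd2⟩ := PSLAut.exists_diag_det (F := F) (n := 2) one_le_two (-1)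
  have hdd : d * d = 1 := Units.ext (by
    rw [Units.val_mul, hd2, Matrix.diagonal_mul_diagonal, Units.val_one, ← Matrix.diagonal_one]
    congr 1
    funext i
    fin_cases i <;> simp)
  set δ : MulAut PSL₂ := inndiagHom 2 F d with hδ
  set φ₀ : MulAut PSL₂ := pslSemi 1 σ₀ with hφ₀
  have hδ2 : δ * δ = 1 := by rw [hδ, ← map_mul, hdd, map_one]
  have hgd : gmap σ₀ d = d := Units.ext (by
    show (d : Matrix (Fin 2) (Fin 2) F).map σ₀ = d
    rw [hd2, Matrix.diagonal_map (map_zero _)]
    congr 1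
    funext i
    fin_cases i <;> simp)
  have hc : Commute δ φ₀ := by
    show δ * φ₀ = φ₀ * δ
    rw [hδ, inndiagHom_apply, hφ₀, pslSemi_refl_mul, mul_one, pslSemi_mul', one_mul, hgd,
      show (σ₀ * (RingEquiv.refl F : RingAut F) : RingAut F) = σ₀ from mul_one σ₀]
  have hm : φ₀ ^ (2 * n + 1) = 1 := by
    rw [hφ₀, pslSemi_one_pow, ← hcard, pow_card_eq_one']
    exact pslSemi_one
  have hgpow : ∀ k : ℕ, (δ * φ₀) ^ k = δ ^ k * φ₀ ^ k := fun k => hc.mul_pow k
  set G₀ : Subgroup (MulAut PSL₂) := Subgroup.zpowers (δ * φ₀) with hG₀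
  have hδmem : δ ∈ G₀ := by
    have : (δ * φ₀) ^ (2 * n + 1) = δ := by
      rw [hgpow, hm, mul_one, pow_succ, pow_mul, pow_two, hδ2, one_pow, one_mul]
    exact this ▸ pow_mem (Subgroup.mem_zpowers _) _
  have hφmem : φ₀ ∈ G₀ := by
    have := mul_mem hδmem (Subgroup.mem_zpowers (δ * φ₀))
    rwa [← mul_assoc, hδ2, one_mul] at this
  refine ⟨G₀, Subgroup.isCyclic_zpowers _, fun f => ?_, fun s hs => ?_, fun s hs hp hco hsol => ?_⟩
  · obtain ⟨g, τ, ε, -, hε, hf⟩ := exists_rep (p := 3) le_rfl f
    rw [hε rfl, pow_zero, mul_one] at hf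
    obtain ⟨i, rfl⟩ := Subgroup.mem_zpowers_iff.1 (hσ₀ τ)
    obtain ⟨k, hk⟩ : ∃ k : ℕ, σ₀ ^ k = σ₀ ^ i := by
      haveI : Finite (RingAut F) := Finite.of_injective (fun τ => (τ : F → F)) DFunLike.coe_injective
      exact (mem_powers_iff_mem_zpowers.2 (Subgroup.zpow_mem_zpowers σ₀ i))
    have hφk : (pslSemi (n := 2) 1 (σ₀ ^ i) : MulAut PSL₂) ∈ G₀ := by
      rw [← hk, ← pslSemi_one_pow]; exact pow_mem hφmem k
    have hsplit : f = inndiagHom 2 F g * pslSemi 1 (σ₀ ^ i) := by
      rw [hf, inndiagHom_apply, pslSemi_refl_mul, mul_one]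
    set w := Matrix.GeneralLinearGroup.det g with hw
    have hnsq : ¬ IsSquare (-1 : F) := by
      rw [FiniteField.isSquare_neg_one_iff]; omega
    by_cases hsq : IsSquare (w : F)
    · obtain ⟨y, hy⟩ := conj_mem_of_square g hsq
      exact ⟨y, _, hφk, by rw [hy, hsplit]⟩
    · have hsq' : IsSquare (Matrix.GeneralLinearGroup.det (g * d) : F) := by
        rw [map_mul, hd1, ← hw, Units.val_mul, Units.val_neg, Units.val_one, mul_neg_one]
        have h2 : ringChar F ≠ 2 := by rw [ringChar.eq F 3]; norm_num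
        have hm0 : (-1 : F) ≠ 0 := neg_ne_zero.2 one_ne_zero
        rw [FiniteField.isSquare_iff h2 hm0] at hnsq
        rw [FiniteField.isSquare_iff h2 w.ne_zero] at hsq
        rw [FiniteField.isSquare_iff h2 (neg_ne_zero.2 w.ne_zero), ← neg_one_mul, mul_pow,
          (FiniteField.pow_dichotomy h2 hm0).resolve_left hnsq,
          (FiniteField.pow_dichotomy h2 w.ne_zero).resolve_left hsq]
        ring
      obtain ⟨y, hy⟩ := conj_mem_of_square _ hsq'
      refine ⟨y, _, mul_mem hδmem hφk, ?_⟩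
      rw [hy, hsplit, map_mul, hδ, mul_assoc (inndiagHom 2 F g), ← mul_assoc (inndiagHom 2 F d),
        ← map_mul, hdd, map_one, one_mul]
  · let W : SpecialLinearGroup (Fin 2) F := ⟨!![0, 1; -1, 0], by simp [Matrix.det_fin_two]⟩
    refine ⟨slToPSL 2 F W, fun e => ?_, ?_⟩
    · obtain ⟨c, hc⟩ := (slToPSL_eq_one_iff _).1 e
      have := congrFun (congrFun hc 0) 1
      simp [W] at this
    · have hφW : φ₀ (slToPSL 2 F W) = slToPSL 2 F W := by
        rw [hφ₀, pslSemi_mk]
        refine congrArg _ (Subtype.ext ?_)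
        rw [slSemi_coe]
        ext i j
        fin_cases i <;> fin_cases j <;> simp [W]
      have hδW : δ (slToPSL 2 F W) = slToPSL 2 F W := by
        rw [hδ, inndiagHom_apply, pslSemi_mk]
        let Z : SpecialLinearGroup (Fin 2) F := ⟨!![-1, 0; 0, -1], by simp [Matrix.det_fin_two]⟩
        have hZ : slToPSL 2 F Z = 1 := (slToPSL_eq_one_iff _).2 ⟨-1, by
          ext i j
          fin_cases i <;> fin_cases j <;> simp [Z]⟩
        have hdi : d⁻¹ = d := inv_eq_of_mul_eq_one_right hdd
        have he : slSemi d (RingEquiv.refl F) W = W * Z := by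
          refine Subtype.ext ?_
          rw [slSemi_coe, hdi, hd2]
          show _ = (W : Matrix (Fin 2) (Fin 2) F) * (Z : Matrix (Fin 2) (Fin 2) F)
          ext i j
          fin_cases i <;> fin_cases j <;>
            simp [W, Z, Matrix.mul_apply, Fin.sum_univ_two, Matrix.vecMul, dotProduct]
        rw [he, map_mul, hZ, mul_one]
      have hmem : δ * φ₀ ∈ MulAction.stabilizer (MulAut PSL₂) (slToPSL 2 F W) := by
        rw [MulAction.mem_stabilizer_iff, MulAut.smul_def, MulAut.mul_apply, hφW, hδW]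
      exact Subgroup.zpowers_le.2 hmem hs
  · right
    -- `s` is a field automorphism
    obtain ⟨k, hk⟩ : ∃ k : ℕ, (δ * φ₀) ^ k = s := by
      haveI : Finite (MulAut PSL₂) := Finite.of_injective (fun τ => (τ : PSL₂ → PSL₂)) DFunLike.coe_injective
      exact mem_powers_iff_mem_zpowers.2 hs
    have hr2 : orderOf s ≠ 2 := by
      intro h
      rw [h] at hco
      have hev : 2 ∣ Nat.card PSL₂ :=
        by
        haveI : Fact (Nat.Prime 2) := ⟨Nat.prime_two⟩
        obtain ⟨P⟩ := (inferInstance : Nonempty (Sylow 2 PSL₂))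
        have hk := Cfsg.Agent.S0276.result (F := F) rfl (Or.inl h8) P
        have h4 := hk.card_four
        have hd := (P : Subgroup PSL₂).card_subgroup_dvd_card
        rw [h4] at hd
        exact dvd_trans ⟨2, rfl⟩ hd
      exact absurd (Nat.dvd_gcd dvd_rfl hev) (by rw [hco]; decide)
    obtain ⟨l, hl⟩ := hp.odd_of_ne_two hr2
    have hsφ : s = φ₀ ^ (k * (2 * (l + 1))) := by
      have h1 : s ^ (2 * (l + 1)) = s := by
        rw [show 2 * (l + 1) = orderOf s + 1 by omega, pow_succ, pow_orderOf_eq_one, one_mul]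
      rw [← h1, ← hk, ← pow_mul, hgpow, show k * (2 * (l + 1)) = 2 * (k * (l + 1)) by ring,
        pow_mul δ, pow_two, hδ2, one_pow, one_mul]
    rw [hφ₀, pslSemi_one_pow] at hsφ
    set σ := σ₀ ^ (k * (2 * (l + 1))) with hσdef
    have hσ : orderOf σ = orderOf s := by
      refine Nat.dvd_antisymm (orderOf_dvd_of_pow_eq_one ?_) (orderOf_dvd_of_pow_eq_one ?_)
      · have h := pow_orderOf_eq_one s
        nth_rw 1 [hsφ] at h
        rw [pslSemi_one_pow, semi_eq_one_iff le_rfl] at h
        exact h.1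
      · rw [hsφ, pslSemi_one_pow, pow_orderOf_eq_one]
        exact pslSemi_one
    obtain ⟨e, he⟩ : orderOf σ ∣ 2 * n + 1 := hcard ▸ orderOf_dvd_natCard σ
    have he0 : e ≠ 0 := by rintro rfl; omega
    letI : Fintype (GaloisField 3 e) := Fintype.ofFinite _
    have hKc : Fintype.card (GaloisField 3 e) = 3 ^ e := by
      rw [← Nat.card_eq_fintype_card]; exact GaloisField.card 3 _ he0
    obtain ⟨-, -, j, hj⟩ := exists_fixed_embedding (p := 3) hF (σ := σ) rfl (GaloisField 3 e)
      (by rw [hKc, he, Nat.mul_div_cancel_left _ (orderOf_pos σ)])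
    let ψ : SpecialLinearGroup (Fin 2) (GaloisField 3 e) →* PSL₂ :=
      (slToPSL 2 F).comp (SpecialLinearGroup.map j)
    have hrange : fixedSub s = ψ.range := by
      ext x
      rw [mem_fixedSub, hsφ]
      constructor
      · intro hx
        obtain ⟨M, rfl⟩ := slToPSL_surjective x
        rw [pslSemi_mk, eq_comm, ← inv_mul_eq_one, ← map_inv, ← map_mul] at hx
        obtain ⟨c, hcM⟩ := (slToPSL_eq_one_iff _).1 hx
        have hM : (M : Matrix (Fin 2) (Fin 2) F).map σ = c • (M : Matrix (Fin 2) (Fin 2) F) := by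
          have h := congrArg (fun A : Matrix (Fin 2) (Fin 2) F => (M : Matrix (Fin 2) (Fin 2) F) * A) hcM
          have h1 : ((slSemi 1 σ M : SpecialLinearGroup (Fin 2) F) : Matrix (Fin 2) (Fin 2) F) =
              (M : Matrix (Fin 2) (Fin 2) F) * Matrix.scalar (Fin 2) c :=
            (congrArg Subtype.val (mul_inv_cancel_left M (slSemi 1 σ M)).symm).trans h
          rw [slSemi_coe, ← (Matrix.scalar_commute c (fun r => Commute.all c r) (M : Matrix (Fin 2) (Fin 2) F)).eq,
            Matrix.scalar_apply, ← Matrix.smul_eq_diagonal_mul] at h1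
          simpa using h1
        have hc2 : c * c = 1 := by
          have h := congrArg Matrix.det hM
          rw [Matrix.det_smul, M.det_coe, Fintype.card_fin, mul_one, pow_two] at h
          rw [← h]
          rw [show (M : Matrix (Fin 2) (Fin 2) F).map σ = σ.toRingHom.mapMatrix (M : Matrix (Fin 2) (Fin 2) F) from rfl,
            ← RingHom.map_det, M.det_coe, map_one]
        have hc1 : c = 1 := by
          rcases mul_self_eq_one_iff.1 hc2 with h | h
          · exact h
          exfalso
          have hit : ∀ i : ℕ, ∀ a b, (σ ^ i : RingAut F) ((M : Matrix (Fin 2) (Fin 2) F) a b) =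
              c ^ i * (M : Matrix (Fin 2) (Fin 2) F) a b := by
            intro i a b
            induction i with
            | zero => simp
            | succ i ih =>
              have h1 : σ ((M : Matrix (Fin 2) (Fin 2) F) a b) = c * (M : Matrix (Fin 2) (Fin 2) F) a b :=
                congrFun (congrFun hM a) b
              rw [pow_succ', RingAut.mul_apply, ih, map_mul, h1, map_pow, h, map_neg, map_one]
              ring
          have hz : ∀ a b, (M : Matrix (Fin 2) (Fin 2) F) a b = 0 := fun a b => by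
            have h1 := hit (orderOf σ) a b
            rw [pow_orderOf_eq_one, RingAut.one_apply, h, (hp.odd_of_ne_two hr2 |> fun o => hσ.symm ▸ o : Odd (orderOf σ)).neg_one_pow] at h1
            exact (mul_eq_zero.1 (show (2 : F) * _ = 0 by linear_combination h1)).resolve_left h2F
          have := M.det_coe
          rw [Matrix.det_fin_two, hz 0 0, hz 0 1] at this
          simp at this
        rw [hc1, one_smul] at hM
        choose A hA using fun a b => (hj _).1 (congrFun (congrFun hM a) b)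
        have hdet : (Matrix.of A).det = 1 := j.injective (by
          rw [RingHom.map_det, map_one, ← M.det_coe]
          exact congrArg Matrix.det (Matrix.ext hA))
        exact ⟨⟨_, hdet⟩, congrArg (slToPSL 2 F)
          ((Subtype.ext (Matrix.ext hA)) : SpecialLinearGroup.map j ⟨Matrix.of A, hdet⟩ = M)⟩
      · rintro ⟨M, rfl⟩
        show pslSemi 1 σ (slToPSL 2 F _) = slToPSL 2 F _
        rw [pslSemi_mk]
        refine congrArg _ (Subtype.ext ?_)
        rw [slSemi_coe]
        ext a b
        simpa using (hj _).2 ⟨_, rfl⟩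
    have hker : ψ.ker = Subgroup.center _ := by
      ext M
      rw [MonoidHom.mem_ker, Matrix.SpecialLinearGroup.mem_center_iff]
      show slToPSL 2 F (SpecialLinearGroup.map j M) = 1 ↔ _
      rw [slToPSL_eq_one_iff]
      constructor
      · rintro ⟨c, hcM⟩
        have hev : ∀ a b, j ((M : Matrix (Fin 2) (Fin 2) (GaloisField 3 e)) a b) = if a = b then c else 0 :=
          fun a b => by simpa [Matrix.diagonal_apply] using congrFun (congrFun hcM a) b
        have hscal : Matrix.scalar (Fin 2) ((M : Matrix (Fin 2) (Fin 2) (GaloisField 3 e)) 0 0) = M := by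
          ext a b
          apply j.injective
          rw [hev]
          by_cases hab : a = b <;> simp [hab, hev]
        refine ⟨_, ?_, hscal⟩
        have hdet := M.det_coe
        rw [← hscal] at hdet
        simpa [Fintype.card_fin] using hdet
      · rintro ⟨r, -, hr⟩
        refine ⟨j r, ?_⟩
        ext a b
        show j ((M : Matrix (Fin 2) (Fin 2) (GaloisField 3 e)) a b) = _
        rw [← hr]
        by_cases hab : a = b <;> simp [hab]
    have eC : Matrix.ProjectiveSpecialLinearGroup (Fin 2) (GaloisField 3 e) ≃* fixedSub s :=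
      ((QuotientGroup.quotientMulEquivOfEq hker.symm).trans (QuotientGroup.quotientKerEquivRange ψ)).trans
        (MulEquiv.subgroupCongr hrange.symm)
    have he1 : e = 1 := by
      by_contra hne
      haveI := hsol
      refine psl_two_not_solvable (GaloisField 3 e) ?_ ?_ (Group.isSolvable_of_isSolvable_injective
        (f := eC.toMonoidHom) eC.injective)
      · rw [hKc]
        exact le_trans (by norm_num) (Nat.pow_le_pow_right (by norm_num) (show 2 ≤ e by omega))
      · intro h
        exact one_ne_zero (α := GaloisField 3 e) (by linear_combination h)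
    obtain ⟨e₄⟩ := Cfsg.Agent.S0251.result (F := GaloisField 3 e) (by rw [hKc, he1]; norm_num)
    exact ⟨eC.symm.trans e₄⟩

end PSL

end Cfsg.Agent.Invol.FpfS3Free
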