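import Cfsg.Agent.Lib.Invol.FpfS3Free.AltFour
import Cfsg.Agent.Lib.Invol.FpfS3Free.Models

/-!
A simple group with good automorphisms has no fixed-point-free operator group which is nilpotent
modulo a normal subgroup of coprime order and has solvable invariant proper subgroups.
-/

set_option autoImplicit false

namespace Cfsg.Agent.Invol.FpfS3Free

open Subgroup
open scoped commutatorElement

universe u v

variable {T : Type u} [Group T] [Finite T]

theorem commutator_lt_self (C : Subgroup T) [Group.IsSolvable C] (hC : C ≠ ⊥) : ⁅C, C⁆ < C := by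
  haveI : Nontrivial C := C.nontrivial_iff_ne_bot.2 hC
  refine lt_of_le_of_ne ((Subgroup.commutator_le).2 fun a ha b hb => ?_) fun h => ?_
  · exact C.mul_mem (C.mul_mem (C.mul_mem ha hb) (C.inv_mem ha)) (C.inv_mem hb)
  · refine (Group.IsSolvable.commutator_lt_top_of_nontrivial C).ne ?_
    apply Subgroup.map_injective C.subtype_injective
    rw [map_subtype_commutator, ← MonoidHom.range_eq_map, Subgroup.range_subtype]
    exact h

theorem conj_injective_of_simple [IsSimpleGroup T] (hna : ¬ IsMulCommutative T) :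
    Function.Injective (MulAut.conj : T →* MulAut T) := by
  refine (MonoidHom.ker_eq_bot_iff _).1 ?_
  have hk : (MulAut.conj : T →* MulAut T).ker = center T := by
    ext x
    rw [MonoidHom.mem_ker, mem_center_iff]
    constructor
    · intro h g
      have := DFunLike.congr_fun h g
      rw [MulAut.conj_apply, MulAut.one_apply] at this
      exact (mul_inv_eq_iff_eq_mul.1 this).symm
    · intro h
      exact MulEquiv.ext fun g => by rw [MulAut.conj_apply, ← h g, mul_inv_cancel_right, MulAut.one_apply]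
  rw [hk]
  exact ((inferInstance : (center T).Normal).eq_bot_or_eq_top).resolve_right fun h =>
    hna ⟨⟨fun a b => (mem_center_iff.1 (h ▸ mem_top b) a)⟩⟩

theorem mul_conj (f : MulAut T) (t : T) : f * MulAut.conj t = MulAut.conj (f t) * f := by
  ext x
  simp [map_mul, map_inv]

instance conj_range_normal : (MulAut.conj : T →* MulAut T).range.Normal :=
  ⟨fun _ ⟨t, ht⟩ f => ⟨f t, by rw [← ht, mul_conj, mul_inv_cancel_right]⟩⟩

/-- Automorphisms commute modulo the inner ones when the outer representatives form a cyclic group. -/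
theorem out_commute {S : Subgroup (MulAut T)} (hS : IsCyclic S)
    (hspan : ∀ f : MulAut T, ∃ t : T, ∃ s ∈ S, f = MulAut.conj t * s)
    (a b : MulAut T ⧸ (MulAut.conj : T →* MulAut T).range) : a * b = b * a := by
  induction a using QuotientGroup.induction_on with | _ f =>
  induction b using QuotientGroup.induction_on with | _ g =>
  obtain ⟨t, s, hs, rfl⟩ := hspan f
  obtain ⟨t', s', hs', rfl⟩ := hspan g
  have hc : s * s' = s' * s := by
    obtain ⟨x, hx⟩ := hS.exists_generator
    obtain ⟨i, hi⟩ := mem_zpowers_iff.1 (hx ⟨s, hs⟩)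
    obtain ⟨j, hj⟩ := mem_zpowers_iff.1 (hx ⟨s', hs'⟩)
    have := (Commute.refl x).zpow_zpow i j
    rw [hi, hj] at this
    exact congrArg Subtype.val this.eq
  let π := QuotientGroup.mk' (MulAut.conj : T →* MulAut T).range
  have h1 : ∀ t s, π (MulAut.conj t * s) = π s := fun t s => by
    rw [map_mul, show π (MulAut.conj t) = 1 from (QuotientGroup.eq_one_iff _).2 ⟨t, rfl⟩, one_mul]
  show π _ * π _ = π _ * π _
  rw [h1, h1, ← map_mul, ← map_mul, hc]

/-- A cyclic, hence fixed-point-free single automorphism: impossible. -/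
theorem nilpotent_false [IsSimpleGroup T] (hna : ¬ IsMulCommutative T) {S : Subgroup (MulAut T)}
    (hS : IsCyclic S) (hspan : ∀ f : MulAut T, ∃ t : T, ∃ s ∈ S, f = MulAut.conj t * s)
    (hfix : ∀ s ∈ S, ∃ x : T, x ≠ 1 ∧ s x = x) (B : Subgroup (MulAut T)) [Group.IsNilpotent B]
    (hB : ∀ g : T, (∀ b ∈ B, b g = g) → g = 1) : False := by
  set π := QuotientGroup.mk' ((MulAut.conj : T →* MulAut T).range) with hπ
  have hdis : B ⊓ (MulAut.conj : T →* MulAut T).range = ⊥ := by
    by_contra hne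
    have hnt : Nontrivial ↥((MulAut.conj : T →* MulAut T).range.subgroupOf B) := by
      rw [Subgroup.nontrivial_iff_ne_bot, Ne, Subgroup.subgroupOf_eq_bot, disjoint_iff, inf_comm]
      exact hne
    have hne' : (MulAut.conj : T →* MulAut T).range.subgroupOf B ≠ ⊥ :=
      (Subgroup.nontrivial_iff_ne_bot _).1 hnt
    have hz : (MulAut.conj : T →* MulAut T).range.subgroupOf B ⊓ center B ≠ ⊥ := by
      intro hzb
      refine hne' (Subgroup.eq_bot_iff_forall _ |>.2 fun x hx => ?_)
      obtain ⟨n, hn⟩ := (inferInstance : Group.IsNilpotent B)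
      have key : ∀ i, ∀ x ∈ (MulAut.conj : T →* MulAut T).range.subgroupOf B,
          x ∈ Subgroup.upperCentralSeries B i → x = 1 := by
        intro i
        induction i with
        | zero =>
          intro x _ hx'
          rw [Subgroup.upperCentralSeries_zero] at hx'
          exact Subgroup.mem_bot.1 hx'
        | succ i ih =>
          intro x hx hx'
          refine Subgroup.mem_bot.1 (hzb ▸ ⟨hx, mem_center_iff.2 fun y => ?_⟩)
          have h1 : x * y * x⁻¹ * y⁻¹ = 1 := by
            refine ih _ ?_ ((Subgroup.mem_upperCentralSeries_succ_iff).1 hx' y)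
            have : x * y * x⁻¹ * y⁻¹ = x * (y * x⁻¹ * y⁻¹) := by group
            rw [this]
            exact mul_mem hx ((inferInstance : (((MulAut.conj : T →* MulAut T).range.subgroupOf B)).Normal).conj_mem _ (inv_mem hx) y)
          calc y * x = (x * y * x⁻¹ * y⁻¹)⁻¹ * (x * y) := by group
            _ = x * y := by rw [h1, inv_one, one_mul]
      exact key n x hx (hn ▸ mem_top x)
    haveI := (Subgroup.nontrivial_iff_ne_bot _).2 hz
    obtain ⟨⟨x, hxI, hxc⟩, hx1⟩ :=
      exists_ne (1 : ↥((MulAut.conj : T →* MulAut T).range.subgroupOf B ⊓ center B))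
    obtain ⟨t, ht⟩ := Subgroup.mem_subgroupOf.1 hxI
    refine hx1 (Subtype.ext (Subtype.ext ?_))
    show (x : MulAut T) = 1
    rw [← ht, hB t fun b hb => conj_injective_of_simple hna ?_, map_one]
    have h := congrArg (Subtype.val : B → MulAut T) (mem_center_iff.1 hxc ⟨b, hb⟩)
    change b * (x : MulAut T) = (x : MulAut T) * b at h
    rw [← ht, mul_conj] at h
    exact mul_right_cancel h
  haveI : IsCyclic (MulAut T ⧸ (MulAut.conj : T →* MulAut T).range) :=
    haveI := hS
    isCyclic_of_surjective (π.comp S.subtype) fun q => by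
      obtain ⟨f, rfl⟩ := QuotientGroup.mk'_surjective _ q
      obtain ⟨t, s, hs, rfl⟩ := hspan f
      exact ⟨⟨s, hs⟩, by
        rw [map_mul, show π (MulAut.conj t) = 1 from (QuotientGroup.eq_one_iff _).2 ⟨t, rfl⟩, one_mul]; rfl⟩
  haveI : IsCyclic B := isCyclic_of_injective (π.comp B.subtype) (by
    refine (MonoidHom.ker_eq_bot_iff _).1 (Subgroup.eq_bot_iff_forall _ |>.2 fun b hb => Subtype.ext ?_)
    exact Subgroup.mem_bot.1 (hdis ▸ ⟨b.2, (QuotientGroup.eq_one_iff _).1 hb⟩))
  obtain ⟨⟨β, hβB⟩, hβ⟩ := IsCyclic.exists_generator (α := B)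
  have hβfix : ∀ g, β g = g → g = 1 := fun g hg => hB g fun b hb => by
    obtain ⟨i, hi⟩ := mem_zpowers_iff.1 (hβ ⟨b, hb⟩)
    have hi' : β ^ i = b := by simpa using congrArg Subtype.val hi
    rw [← hi']
    exact Subgroup.zpowers_le.2 (show β ∈ MulAction.stabilizer (MulAut T) g from hg) (zpow_mem_zpowers β i)
  have hinj : Function.Injective fun x : T => x⁻¹ * β x := fun x y h => by
    simp only at h
    have : β (y * x⁻¹) = y * x⁻¹ := by
      rw [map_mul, map_inv, show β y = y * (x⁻¹ * β x) by rw [h, mul_inv_cancel_left]]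
      group
    exact (mul_inv_eq_one.1 (hβfix _ this)).symm
  obtain ⟨t, s, hs, hβs⟩ := hspan β
  obtain ⟨x, hx⟩ := (Finite.injective_iff_surjective.1 hinj) t⁻¹
  simp only at hx
  obtain ⟨x₀, hx₀, hsx₀⟩ := hfix s hs
  refine hx₀ ?_
  have h := hβfix (x * x₀ * x⁻¹) ?_
  · simpa using h
  have hbx : β x = x * t⁻¹ := by rw [← hx, mul_inv_cancel_left]
  rw [map_mul, map_mul, map_inv, hbx, show β x₀ = t * x₀ * t⁻¹ by
    rw [hβs, MulAut.mul_apply, hsx₀, MulAut.conj_apply]]
  group

/-- Conjugation in `MulAut T` transports the operator group. -/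
theorem fpf_conj {A : Type v} [Group A] (φ : A →* MulAut T) (hfpf : ∀ g : T, (∀ a, φ a g = g) → g = 1)
    (c : MulAut T) (g : T) (hg : ∀ a, ((MulAut.conj c).toMonoidHom.comp φ) a g = g) : g = 1 := by
  have h := hfpf (c⁻¹ g) fun a => by
    have := hg a
    change (c * φ a * c⁻¹) g = g at this
    rw [MulAut.mul_apply, MulAut.mul_apply] at this
    have h3 := congrArg (c⁻¹ : MulAut T) this
    rwa [MulAut.inv_apply_self] at h3
  have h2 := congrArg c h
  rwa [← MulAut.mul_apply, mul_inv_cancel, MulAut.one_apply, map_one] at h2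

/-- The simple case. -/
theorem simple_false [IsSimpleGroup T] (hna : ¬ IsMulCommutative T) (hT : GoodModel T)
    {A : Type v} [Group A] [Finite A] (φ₀ : A →* MulAut T)
    (hfpf₀ : ∀ g : T, (∀ a, φ₀ a g = g) → g = 1)
    (K : Subgroup A) [K.Normal] (hK : (Nat.card K).Coprime (Nat.card T))
    (hQ : Group.IsNilpotent (A ⧸ K))
    (hprop : ∀ (φ : A →* MulAut T), (∀ g : T, (∀ a, φ a g = g) → g = 1) →
      ∀ C : Subgroup T, C ≠ ⊤ → (∀ a, ∀ x ∈ C, φ a x ∈ C) → Group.IsSolvable C) : False := by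
  classical
  obtain ⟨S, hS, hspan, hfix, hcases⟩ := hT
  by_cases hKt : ∀ k ∈ K, φ₀ k = 1
  · haveI := hQ
    haveI : Group.IsNilpotent φ₀.range := Group.nilpotent_of_surjective
      (QuotientGroup.lift K φ₀.rangeRestrict fun k hk =>
        MonoidHom.mem_ker.2 (Subtype.ext (hKt k hk))) fun b => by
        obtain ⟨a, ha⟩ := φ₀.rangeRestrict_surjective b
        exact ⟨QuotientGroup.mk a, ha⟩
    exact nilpotent_false hna hS hspan hfix φ₀.range fun g hg => hfpf₀ g fun a => hg _ ⟨a, rfl⟩
  push Not at hKt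
  obtain ⟨k₀, hk₀, hk₀1⟩ := hKt
  -- an element of prime order of the image of the normal subgroup
  set r := (orderOf (φ₀ k₀)).minFac with hr
  have hne : orderOf (φ₀ k₀) ≠ 1 := fun h => hk₀1 (orderOf_eq_one_iff.1 h)
  have hrp : r.Prime := Nat.minFac_prime hne
  haveI : Fact r.Prime := ⟨hrp⟩
  set k := φ₀ k₀ ^ (orderOf (φ₀ k₀) / r) with hk
  have hkr : orderOf k = r := by
    rw [hk, orderOf_pow_orderOf_div ?_ (Nat.minFac_dvd _)]
    exact (orderOf_pos _).ne'
  have hkK : k ∈ K.map φ₀ := ⟨k₀ ^ (orderOf (φ₀ k₀) / r), pow_mem hk₀ _, map_pow _ _ _⟩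
  have hrT : r.Coprime (Nat.card T) := hK.coprime_dvd_left
    ((Nat.minFac_dvd _).trans ((orderOf_map_dvd φ₀ k₀).trans (K.orderOf_dvd_natCard hk₀)))
  have hout : ∀ f ∈ K.map φ₀, f ∈ (MulAut.conj : T →* MulAut T).range → f = 1 := by
    rintro _ ⟨l, hl, rfl⟩ ⟨t, ht⟩
    refine orderOf_eq_one_iff.1 (Nat.eq_one_of_dvd_coprimes hK
      ((orderOf_map_dvd φ₀ l).trans (K.orderOf_dvd_natCard hl)) ?_)
    rw [← ht]
    exact (orderOf_map_dvd _ t).trans (orderOf_dvd_natCard t)
  have hcentral : ∀ a, φ₀ a * k = k * φ₀ a := fun a => by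
    have hm : φ₀ a * k * (φ₀ a)⁻¹ * k⁻¹ ∈ K.map φ₀ := by
      obtain ⟨l, hl, hlk⟩ := hkK
      exact ⟨a * l * a⁻¹ * l⁻¹, mul_mem (‹K.Normal›.conj_mem l hl a) (inv_mem hl), by
        simp [map_mul, map_inv, hlk]⟩
    have h1 := hout _ hm ((QuotientGroup.eq_one_iff _).1 (by
      simp only [QuotientGroup.mk_mul, QuotientGroup.mk_inv]
      rw [out_commute hS hspan (QuotientGroup.mk (φ₀ a)) (QuotientGroup.mk k), mul_inv_cancel_right,
        mul_inv_cancel]))
    exact mul_inv_eq_iff_eq_mul.1 (mul_inv_eq_one.1 h1)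
  have hk1 : k ∉ (MulAut.conj : T →* MulAut T).range := fun h => by
    have := hout k hkK h
    rw [this, orderOf_one] at hkr
    exact hrp.one_lt.ne hkr
  -- the standard element in its coset
  obtain ⟨t₁, s₁, hs₁, hks⟩ := hspan k
  set π := QuotientGroup.mk' ((MulAut.conj : T →* MulAut T).range) with hπ
  have hπs : π s₁ = π k := by
    rw [hks, map_mul, show π (MulAut.conj t₁) = 1 from (QuotientGroup.eq_one_iff _).2 ⟨t₁, rfl⟩, one_mul]
  have hpow : s₁ ^ r ∈ (MulAut.conj : T →* MulAut T).range := by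
    refine (QuotientGroup.eq_one_iff _).1 ?_
    show π (s₁ ^ r) = 1
    rw [map_pow, hπs, ← map_pow, ← hkr, pow_orderOf_eq_one, map_one]
  obtain ⟨t₂, ht₂⟩ := hpow
  have hcop : r.Coprime (orderOf (s₁ ^ r)) := hrT.coprime_dvd_right
    (ht₂ ▸ (orderOf_map_dvd _ t₂).trans (orderOf_dvd_natCard t₂))
  obtain ⟨e, he1, he0⟩ := Nat.chineseRemainder hcop 1 0
  obtain ⟨q, hq⟩ : ∃ q, e = 1 + r * q := by
    refine ⟨e / r, ?_⟩
    have h := Nat.div_add_mod e r
    rw [show e % r = 1 % r from he1, Nat.mod_eq_of_lt hrp.one_lt] at h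
    omega
  set s := s₁ ^ e with hsdef
  have hsS : s ∈ S := pow_mem hs₁ e
  have hπsk : π s = π k := by
    have hone : π (s₁ ^ r) = 1 := (QuotientGroup.eq_one_iff _).2 ⟨t₂, ht₂⟩
    rw [hsdef, hq, pow_add, pow_one, pow_mul, map_mul, map_pow π (s₁ ^ r), hone, one_pow, mul_one, hπs]
  have hsr : orderOf s = r := by
    refine orderOf_eq_prime ?_ fun h => hk1 ?_
    · rw [hsdef, ← pow_mul, mul_comm, pow_mul]
      exact orderOf_dvd_iff_pow_eq_one.1 (Nat.modEq_zero_iff_dvd.1 he0)
    · exact (QuotientGroup.eq_one_iff _).1 (show π k = 1 by rw [← hπsk, h, map_one])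
  -- Sylow's theorem in the coset group
  let X : Subgroup (MulAut T) := (zpowers (π k)).comap π
  have hX : Nat.card X = Nat.card (MulAut.conj : T →* MulAut T).range * r := by
    have hle : (MulAut.conj : T →* MulAut T).range ≤ X := fun f hf => by
      show π f ∈ zpowers (π k)
      rw [show π f = 1 from (QuotientGroup.eq_one_iff _).2 hf]
      exact one_mem _
    have h1 := Subgroup.relIndex_mul_relIndex ⊥ (MulAut.conj : T →* MulAut T).range X bot_le hle
    rw [Subgroup.relIndex_bot_left, Subgroup.relIndex_bot_left] at h1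
    rw [← h1]
    congr 1
    have h2 : π.ker = (MulAut.conj : T →* MulAut T).range := QuotientGroup.ker_mk' _
    rw [← h2, Subgroup.relIndex_ker]
    have hmap : X.map π = zpowers (π k) :=
      Subgroup.map_comap_eq_self_of_surjective (QuotientGroup.mk'_surjective _) _
    rw [hmap, Nat.card_zpowers]
    exact orderOf_eq_prime (by rw [← map_pow, ← hkr, pow_orderOf_eq_one, map_one])
      fun h => hk1 ((QuotientGroup.eq_one_iff _).1 h)
  have hrI : ¬ r ∣ Nat.card (MulAut.conj : T →* MulAut T).range := fun h => by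
    rw [← Nat.card_congr (MonoidHom.ofInjective (conj_injective_of_simple hna)).toEquiv] at h
    exact hrp.one_lt.ne' (Nat.eq_one_of_dvd_coprimes hrT dvd_rfl h)
  have hkX : k ∈ X := mem_zpowers (π k)
  have hsX : s ∈ X := show π s ∈ zpowers (π k) from hπsk ▸ mem_zpowers (π k)
  have hsyl : ∀ x : X, orderOf (x : MulAut T) = r → ∃ P : Sylow r X, (P : Subgroup X) = zpowers x := by
    intro x hx
    have hxc : Nat.card (zpowers x) = r := by rw [Nat.card_zpowers, ← Subgroup.orderOf_coe, hx]
    refine ⟨Sylow.ofCard (zpowers x) ?_, rfl⟩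
    rw [hxc, hX, Nat.factorization_mul Nat.card_pos.ne' hrp.pos.ne', Finsupp.add_apply,
      Nat.factorization_eq_zero_of_not_dvd hrI, zero_add, hrp.factorization_self, pow_one]
  obtain ⟨P, hP⟩ := hsyl ⟨k, hkX⟩ hkr
  obtain ⟨Q, hQ'⟩ := hsyl ⟨s, hsX⟩ hsr
  obtain ⟨g, hg⟩ := MulAction.exists_smul_eq X P Q
  have hgk : (g : MulAut T) * k * (g : MulAut T)⁻¹ ∈ zpowers s := by
    have h : g * ⟨k, hkX⟩ * g⁻¹ ∈ (Q : Subgroup X) := by
      rw [← hg, Sylow.coe_subgroup_smul]
      exact ⟨⟨k, hkX⟩, hP ▸ mem_zpowers _, by simp⟩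
    rw [hQ'] at h
    obtain ⟨i, hi⟩ := mem_zpowers_iff.1 h
    exact mem_zpowers_iff.2 ⟨i, by simpa using congrArg Subtype.val hi⟩
  have hgks : (g : MulAut T) * k * (g : MulAut T)⁻¹ = s := by
    obtain ⟨i, hi⟩ := mem_zpowers_iff.1 hgk
    have h1 : π ((g : MulAut T) * k * (g : MulAut T)⁻¹) = π k := by
      rw [map_mul, map_mul, map_inv]
      rw [show π (g : MulAut T) * π k = π k * π (g : MulAut T) from out_commute hS hspan _ _, mul_inv_cancel_right]
    rw [← hi, map_zpow, hπsk] at h1
    have hko : orderOf (π k) = r := orderOf_eq_prime (by rw [← map_pow, ← hkr, pow_orderOf_eq_one, map_one])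
      fun h => hk1 ((QuotientGroup.eq_one_iff _).1 h)
    have h2 : (r : ℤ) ∣ i - 1 := by
      rw [← hko, orderOf_dvd_iff_zpow_eq_one, zpow_sub, h1, zpow_one, mul_inv_cancel]
    obtain ⟨j, hj⟩ := h2
    rw [← hi, show i = (r : ℤ) * j + 1 by omega, zpow_add, zpow_mul, zpow_natCast, ← hsr,
      pow_orderOf_eq_one, one_zpow, one_mul, zpow_one]
  -- the conjugated action centralises the standard element
  set φ : A →* MulAut T := (MulAut.conj (g : MulAut T)).toMonoidHom.comp φ₀ with hφ
  have hfpf : ∀ x : T, (∀ a, φ a x = x) → x = 1 := fpf_conj φ₀ hfpf₀ _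
  have hcomm : ∀ a, φ a * s = s * φ a := fun a => by
    show (g : MulAut T) * φ₀ a * (g : MulAut T)⁻¹ * s = s * ((g : MulAut T) * φ₀ a * (g : MulAut T)⁻¹)
    rw [← hgks]
    calc _ = (g : MulAut T) * (φ₀ a * k) * (g : MulAut T)⁻¹ := by group
      _ = (g : MulAut T) * (k * φ₀ a) * (g : MulAut T)⁻¹ := by rw [hcentral a]
      _ = _ := by group
  have hCinv : ∀ a, ∀ x ∈ fixedSub s, φ a x ∈ fixedSub s := fun a x hx => by
    show s (φ a x) = φ a x
    rw [← MulAut.mul_apply, ← hcomm, MulAut.mul_apply, mem_fixedSub.1 hx]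
  have hCtop : fixedSub s ≠ ⊤ := fun h => hrp.one_lt.ne' <| by
    rw [← hsr, show s = 1 from MulEquiv.ext fun x => (h ▸ mem_top x : x ∈ fixedSub s), orderOf_one]
  have hsol : Group.IsSolvable (fixedSub s) := hprop φ hfpf _ hCtop hCinv
  rcases hcases s hsS (hsr.symm ▸ hrp) (hsr.symm ▸ hrT) hsol with hall | ⟨⟨e₄⟩⟩
  · -- every operator induces an inner automorphism of the centraliser
    haveI := hsol
    have hCne : fixedSub s ≠ ⊥ := fun h => by
      obtain ⟨x, hx1, hx⟩ := hfix s hsS
      exact hx1 (Subgroup.mem_bot.1 (h ▸ (mem_fixedSub.2 hx)))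
    have hlt := commutator_lt_self (fixedSub s) hCne
    refine hlt.not_ge fun u hu => ?_
    refine mem_of_fixed_coset φ hfpf K hK hQ ⁅fixedSub s, fixedSub s⁆
      (Group.isSolvable_of_isSolvable_injective (Subgroup.inclusion_injective hlt.le)) (fun a x hx => ?_) u fun a => ?_
    · have h1 : (fixedSub s).map (φ a).toMonoidHom ≤ fixedSub s := fun _ ⟨y, hy, hye⟩ => hye ▸ hCinv a y hy
      have h2 : ⁅fixedSub s, fixedSub s⁆.map (φ a).toMonoidHom ≤ ⁅fixedSub s, fixedSub s⁆ := by
        rw [Subgroup.map_commutator]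
        exact Subgroup.commutator_mono h1 h1
      exact h2 ⟨x, hx, rfl⟩
    · obtain ⟨t, s', hs', hφa⟩ := hspan (φ a)
      have hc : s * s' = s' * s := by
        obtain ⟨x, hx⟩ := hS.exists_generator
        obtain ⟨i, hi⟩ := mem_zpowers_iff.1 (hx ⟨s, hsS⟩)
        obtain ⟨j, hj⟩ := mem_zpowers_iff.1 (hx ⟨s', hs'⟩)
        have := (Commute.refl x).zpow_zpow i j
        rw [hi, hj] at this
        exact congrArg Subtype.val this.eq
      have htC : t ∈ fixedSub s := by
        show s t = t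
        apply conj_injective_of_simple hna
        have h := hcomm a
        rw [hφa, ← mul_assoc, mul_conj, mul_assoc (MulAut.conj (s t)), hc, mul_assoc] at h
        exact (mul_right_cancel h).symm
      rw [hφa, MulAut.mul_apply, hall s' hs' u hu, MulAut.conj_apply]
      have h1 : u⁻¹ * t * (u⁻¹)⁻¹ * t⁻¹ ∈ ⁅fixedSub s, fixedSub s⁆ :=
        Subgroup.commutator_mem_commutator (inv_mem hu) htC
      simpa [mul_assoc] using h1
  · -- the centraliser is the alternating group of degree four
    let ρ : A → MulAut (fixedSub s) := fun a =>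
      MonoidHom.toMulEquiv (((φ a).toMonoidHom.comp (fixedSub s).subtype).codRestrict _ fun x => hCinv a x x.2)
        (((φ a⁻¹).toMonoidHom.comp (fixedSub s).subtype).codRestrict _ fun x => hCinv a⁻¹ x x.2)
        (MonoidHom.ext fun x => Subtype.ext (show φ a⁻¹ (φ a x) = x by
          rw [← MulAut.mul_apply, ← map_mul, inv_mul_cancel, map_one, MulAut.one_apply]))
        (MonoidHom.ext fun x => Subtype.ext (show φ a (φ a⁻¹ x) = x by
          rw [← MulAut.mul_apply, ← map_mul, mul_inv_cancel, map_one, MulAut.one_apply]))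
    let φ' : A →* MulAut (alternatingGroup (Fin 4)) := (MulAut.congr e₄).toMonoidHom.comp
      (MonoidHom.mk' ρ fun a b => MulEquiv.ext fun x => Subtype.ext (show φ (a * b) x = φ a (φ b x) by
        rw [map_mul, MulAut.mul_apply]))
    refine alt_four_false φ' (fun x hx => ?_) K (hK.coprime_dvd_right ?_) hQ
    · have h := hfpf (e₄.symm x : T) fun a => by
        have := congrArg (fun y => ((e₄.symm y : fixedSub s) : T)) (hx a)
        simp [φ', ρ] at this
        exact this
      exact e₄.symm.injective (by rw [map_one]; exact Subtype.ext h)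
    · rw [show (12 : ℕ) = Nat.card (fixedSub s) by rw [Nat.card_congr e₄.toEquiv, alt_four_card.2]]
      exact (fixedSub s).card_subgroup_dvd_card

end Cfsg.Agent.Invol.FpfS3Free
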